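import Mathlib

/-!
# Finite-dimensional subcoalgebras and finitely generated Hopf subalgebras (helper for S5375)
-/

namespace Groth.Agent.Helper2.HopfFGU

open TensorProduct Coalgebra

universe u v

set_option linter.unusedSectionVars false
set_option linter.style.haveILetI false

section Coalg

variable {k : Type u} [Field k] {A : Type v} [AddCommGroup A] [Module k A] [Coalgebra k A]

/-- right contraction `a ↦ Σ a₁ φ(a₂)` -/
noncomputable def Rc (φ : A →ₗ[k] k) : A →ₗ[k] A :=
  (TensorProduct.rid k A).toLinearMap ∘ₗ (LinearMap.lTensor A φ) ∘ₗ comul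

/-- left contraction `a ↦ Σ ψ(a₁) a₂` -/
noncomputable def Lc (ψ : A →ₗ[k] k) : A →ₗ[k] A :=
  (TensorProduct.lid k A).toLinearMap ∘ₗ (LinearMap.rTensor A ψ) ∘ₗ comul

/-- convolution of functionals -/
noncomputable def cv (χ φ : A →ₗ[k] k) : A →ₗ[k] k :=
  LinearMap.mul' k k ∘ₗ TensorProduct.map χ φ ∘ₗ comul

lemma Rc_apply (φ : A →ₗ[k] k) (a : A) {ι : Type*} (𝓡 : Repr k a ι) :
    Rc φ a = ∑ i ∈ 𝓡.index, φ (𝓡.right i) • 𝓡.left i := by
  simp [Rc, ← 𝓡.eq, map_sum]

lemma Lc_apply (ψ : A →ₗ[k] k) (a : A) {ι : Type*} (𝓡 : Repr k a ι) :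
    Lc ψ a = ∑ i ∈ 𝓡.index, ψ (𝓡.left i) • 𝓡.right i := by
  simp [Lc, ← 𝓡.eq, map_sum]

lemma cv_apply (χ φ : A →ₗ[k] k) (a : A) {ι : Type*} (𝓡 : Repr k a ι) :
    cv χ φ a = ∑ i ∈ 𝓡.index, χ (𝓡.left i) * φ (𝓡.right i) := by
  simp [cv, ← 𝓡.eq, map_sum]

/-- the contraction `p ⊗ (q ⊗ s) ↦ f p • h s • q`. -/
noncomputable def G2 (f h : A →ₗ[k] k) : A ⊗[k] (A ⊗[k] A) →ₗ[k] A :=
  (TensorProduct.lid k A).toLinearMap ∘ₗ
    TensorProduct.map f ((TensorProduct.rid k A).toLinearMap ∘ₗ TensorProduct.map LinearMap.id h)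

@[simp] lemma G2_tmul (f h : A →ₗ[k] k) (p q s : A) :
    G2 f h (p ⊗ₜ (q ⊗ₜ s)) = f p • h s • q := by
  simp only [G2, LinearMap.coe_comp, LinearEquiv.coe_coe, Function.comp_apply, map_tmul,
    LinearMap.id_coe, id_eq, rid_tmul, lid_tmul]

/-- the contraction `p ⊗ (q ⊗ s) ↦ g q • h s • p`. -/
noncomputable def G1 (g h : A →ₗ[k] k) : A ⊗[k] (A ⊗[k] A) →ₗ[k] A :=
  (TensorProduct.rid k A).toLinearMap ∘ₗ
    TensorProduct.map LinearMap.id (LinearMap.mul' k k ∘ₗ TensorProduct.map g h)

@[simp] lemma G1_tmul (g h : A →ₗ[k] k) (p q s : A) :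
    G1 g h (p ⊗ₜ (q ⊗ₜ s)) = (g q * h s) • p := by
  simp [G1]

/-- the contraction `p ⊗ (q ⊗ s) ↦ f p • g q • s`. -/
noncomputable def G3 (f g : A →ₗ[k] k) : A ⊗[k] (A ⊗[k] A) →ₗ[k] A :=
  (TensorProduct.lid k A).toLinearMap ∘ₗ
    TensorProduct.map f ((TensorProduct.lid k A).toLinearMap ∘ₗ TensorProduct.map g LinearMap.id)

@[simp] lemma G3_tmul (f g : A →ₗ[k] k) (p q s : A) :
    G3 f g (p ⊗ₜ (q ⊗ₜ s)) = f p • g q • s := by
  simp only [G3, LinearMap.coe_comp, LinearEquiv.coe_coe, Function.comp_apply, map_tmul,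
    LinearMap.id_coe, id_eq, lid_tmul]

lemma Rc_Rc (χ φ : A →ₗ[k] k) (a : A) : Rc χ (Rc φ a) = Rc (cv χ φ) a := by
  have h := sum_tmul_tmul_eq (ℛ k a) (fun i => ℛ k ((ℛ k a).left i)) (fun i => ℛ k ((ℛ k a).right i))
  have h2 := congrArg (G1 χ φ) h
  simp only [map_sum, G1_tmul] at h2
  rw [Rc_apply φ a (ℛ k a), map_sum, Rc_apply (cv χ φ) a (ℛ k a)]
  calc ∑ i ∈ (ℛ k a).index, Rc χ (φ ((ℛ k a).right i) • (ℛ k a).left i)
      = ∑ i ∈ (ℛ k a).index, ∑ j ∈ (ℛ k ((ℛ k a).left i)).index,
          (χ ((ℛ k ((ℛ k a).left i)).right j) * φ ((ℛ k a).right i)) •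
            (ℛ k ((ℛ k a).left i)).left j := by
        apply Finset.sum_congr rfl
        intro i _
        rw [map_smul, Rc_apply χ _ (ℛ k ((ℛ k a).left i)), Finset.smul_sum]
        apply Finset.sum_congr rfl
        intro j _
        rw [smul_smul, mul_comm]
    _ = _ := h2
    _ = _ := by
        apply Finset.sum_congr rfl
        intro i _
        rw [cv_apply χ φ _ (ℛ k ((ℛ k a).right i)), Finset.sum_smul]

lemma Lc_Lc (χ ψ : A →ₗ[k] k) (a : A) : Lc χ (Lc ψ a) = Lc (cv ψ χ) a := by
  have h := sum_tmul_tmul_eq (ℛ k a) (fun i => ℛ k ((ℛ k a).left i)) (fun i => ℛ k ((ℛ k a).right i))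
  have h2 := congrArg (G3 ψ χ) h
  simp only [map_sum, G3_tmul] at h2
  rw [Lc_apply ψ a (ℛ k a), map_sum, Lc_apply (cv ψ χ) a (ℛ k a)]
  calc ∑ i ∈ (ℛ k a).index, Lc χ (ψ ((ℛ k a).left i) • (ℛ k a).right i)
      = ∑ i ∈ (ℛ k a).index, ∑ j ∈ (ℛ k ((ℛ k a).right i)).index,
          ψ ((ℛ k a).left i) • χ ((ℛ k ((ℛ k a).right i)).left j) •
            (ℛ k ((ℛ k a).right i)).right j := by
        apply Finset.sum_congr rfl
        intro i _
        rw [map_smul, Lc_apply χ _ (ℛ k ((ℛ k a).right i)), Finset.smul_sum]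
    _ = _ := h2.symm
    _ = _ := by
        apply Finset.sum_congr rfl
        intro i _
        rw [cv_apply ψ χ _ (ℛ k ((ℛ k a).left i)), Finset.sum_smul]
        apply Finset.sum_congr rfl
        intro j _
        rw [smul_smul]

lemma Rc_Lc (χ ψ : A →ₗ[k] k) (a : A) : Rc χ (Lc ψ a) = Lc ψ (Rc χ a) := by
  have h := sum_tmul_tmul_eq (ℛ k a) (fun i => ℛ k ((ℛ k a).left i)) (fun i => ℛ k ((ℛ k a).right i))
  have h2 := congrArg (G2 ψ χ) h
  simp only [map_sum, G2_tmul] at h2
  rw [Lc_apply ψ a (ℛ k a), map_sum, Rc_apply χ a (ℛ k a), map_sum]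
  calc ∑ i ∈ (ℛ k a).index, Rc χ (ψ ((ℛ k a).left i) • (ℛ k a).right i)
      = ∑ i ∈ (ℛ k a).index, ∑ j ∈ (ℛ k ((ℛ k a).right i)).index,
          ψ ((ℛ k a).left i) • χ ((ℛ k ((ℛ k a).right i)).right j) •
            (ℛ k ((ℛ k a).right i)).left j := by
        apply Finset.sum_congr rfl
        intro i _
        rw [map_smul, Rc_apply χ _ (ℛ k ((ℛ k a).right i)), Finset.smul_sum]
    _ = _ := h2.symm
    _ = _ := by
        apply Finset.sum_congr rfl
        intro i _
        rw [map_smul, Lc_apply ψ _ (ℛ k ((ℛ k a).left i)), Finset.smul_sum]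
        apply Finset.sum_congr rfl
        intro j _
        rw [smul_comm]

lemma Rc_counit (a : A) : Rc (counit (R := k)) a = a := by
  simp [Rc]

lemma Lc_counit (a : A) : Lc (counit (R := k)) a = a := by
  simp [Lc]

/-- Lemma 1 (right): if all right contractions of `t` lie in `W`, then `t ∈ W ⊗ A`. -/
lemma mem_range_left (W : Submodule k A) (t : A ⊗[k] A)
    (h : ∀ χ : A →ₗ[k] k, TensorProduct.rid k A (LinearMap.lTensor A χ t) ∈ W) :
    t ∈ LinearMap.range (TensorProduct.map W.subtype (LinearMap.id : A →ₗ[k] A)) := by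
  classical
  let b := Module.Basis.ofVectorSpace k A
  have hc : ∀ i, TensorProduct.equivFinsuppOfBasisRight b t i ∈ W := by
    intro i
    rw [TensorProduct.equivFinsuppOfBasisRight_apply]
    exact h _
  have ht : t = (TensorProduct.equivFinsuppOfBasisRight b t).sum fun i m => m ⊗ₜ[k] b i := by
    rw [← TensorProduct.equivFinsuppOfBasisRight_symm_apply, LinearEquiv.symm_apply_apply]
  rw [ht]
  apply Submodule.sum_mem
  intro i _
  exact ⟨(⟨_, hc i⟩ : W) ⊗ₜ[k] b i, by simp⟩

/-- Lemma 1 (left): if all left contractions of `t` lie in `W`, then `t ∈ A ⊗ W`. -/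
lemma mem_range_right (W : Submodule k A) (t : A ⊗[k] A)
    (h : ∀ χ : A →ₗ[k] k, TensorProduct.lid k A (LinearMap.rTensor A χ t) ∈ W) :
    t ∈ LinearMap.range (TensorProduct.map (LinearMap.id : A →ₗ[k] A) W.subtype) := by
  classical
  let b := Module.Basis.ofVectorSpace k A
  have hc : ∀ i, TensorProduct.equivFinsuppOfBasisLeft b t i ∈ W := by
    intro i
    rw [TensorProduct.equivFinsuppOfBasisLeft_apply]
    exact h _
  have ht : t = (TensorProduct.equivFinsuppOfBasisLeft b t).sum fun i m => b i ⊗ₜ[k] m := by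
    rw [← TensorProduct.equivFinsuppOfBasisLeft_symm_apply, LinearEquiv.symm_apply_apply]
  rw [ht]
  apply Submodule.sum_mem
  intro i _
  exact ⟨b i ⊗ₜ[k] (⟨_, hc i⟩ : W), by simp⟩

/-- Lemma 2: `(W ⊗ A) ∩ (A ⊗ W) = W ⊗ W`. -/
lemma mem_range_both (W : Submodule k A) (t : A ⊗[k] A)
    (hL : t ∈ LinearMap.range (TensorProduct.map W.subtype (LinearMap.id : A →ₗ[k] A)))
    (hR : t ∈ LinearMap.range (TensorProduct.map (LinearMap.id : A →ₗ[k] A) W.subtype)) :
    t ∈ LinearMap.range (TensorProduct.map W.subtype W.subtype) := by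
  obtain ⟨P, hP⟩ := LinearMap.exists_leftInverse_of_injective W.subtype (Submodule.ker_subtype W)
  let e : A →ₗ[k] A := W.subtype ∘ₗ P
  have he : e ∘ₗ W.subtype = W.subtype := by
    rw [LinearMap.comp_assoc, hP, LinearMap.comp_id]
  have h1 : TensorProduct.map e LinearMap.id t = t := by
    obtain ⟨s, rfl⟩ := hL
    rw [← LinearMap.comp_apply, ← TensorProduct.map_comp, he, LinearMap.id_comp]
  have h2 : TensorProduct.map LinearMap.id e t = t := by
    obtain ⟨s, rfl⟩ := hR
    rw [← LinearMap.comp_apply, ← TensorProduct.map_comp, he, LinearMap.id_comp]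
  have h3 : TensorProduct.map e e t = t := by
    have : TensorProduct.map e e = TensorProduct.map e LinearMap.id ∘ₗ TensorProduct.map LinearMap.id e := by
      rw [← TensorProduct.map_comp, LinearMap.comp_id, LinearMap.id_comp]
    rw [this, LinearMap.comp_apply, h2, h1]
  refine ⟨TensorProduct.map P P t, ?_⟩
  rw [← LinearMap.comp_apply, ← TensorProduct.map_comp]
  exact h3

/-- Fundamental theorem of coalgebras: every element lies in a finite-dimensional subcoalgebra. -/
theorem exists_fd_subcoalgebra (x : A) : ∃ W : Submodule k A, x ∈ W ∧ FiniteDimensional k W ∧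
    ∀ w ∈ W, comul (R := k) w ∈ LinearMap.range (TensorProduct.map W.subtype W.subtype) := by
  classical
  let gen : Set A := Set.range (fun p : (A →ₗ[k] k) × (A →ₗ[k] k) => Lc p.1 (Rc p.2 x))
  let W : Submodule k A := Submodule.span k gen
  have hx : x ∈ W := by
    apply Submodule.subset_span
    exact ⟨(counit, counit), by simp [Rc_counit, Lc_counit]⟩
  have hRc : ∀ χ : A →ₗ[k] k, ∀ w ∈ W, Rc χ w ∈ W := by
    intro χ w hw
    have : W.map (Rc χ) ≤ W := by
      rw [Submodule.map_span_le]
      rintro _ ⟨⟨ψ, φ⟩, rfl⟩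
      apply Submodule.subset_span
      exact ⟨(ψ, cv χ φ), by simp only [Rc_Lc, Rc_Rc]⟩
    exact this (Submodule.mem_map_of_mem hw)
  have hLc : ∀ χ : A →ₗ[k] k, ∀ w ∈ W, Lc χ w ∈ W := by
    intro χ w hw
    have : W.map (Lc χ) ≤ W := by
      rw [Submodule.map_span_le]
      rintro _ ⟨⟨ψ, φ⟩, rfl⟩
      apply Submodule.subset_span
      exact ⟨(cv ψ χ, φ), by simp only [Lc_Lc]⟩
    exact this (Submodule.mem_map_of_mem hw)
  refine ⟨W, hx, ?_, ?_⟩
  · -- finite-dimensional
    let 𝓡 := ℛ k x
    let 𝓡' := fun i => ℛ k (𝓡.left i)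
    let F : Set A := ⋃ i ∈ 𝓡.index, (fun j => (𝓡' i).right j) '' ((𝓡' i).index : Set (A × A))
    have hF : F.Finite := by
      apply Set.Finite.biUnion (Finset.finite_toSet _)
      intro i _
      exact Set.Finite.image _ (Finset.finite_toSet _)
    have hle : W ≤ Submodule.span k F := by
      rw [Submodule.span_le]
      rintro _ ⟨⟨ψ, φ⟩, rfl⟩
      simp only
      rw [Rc_apply φ x 𝓡, map_sum]
      apply Submodule.sum_mem
      intro i hi
      rw [map_smul]
      apply Submodule.smul_mem
      rw [Lc_apply ψ _ (𝓡' i)]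
      apply Submodule.sum_mem
      intro j hj
      apply Submodule.smul_mem
      apply Submodule.subset_span
      simp only [F, Set.mem_iUnion]
      exact ⟨i, hi, j, hj, rfl⟩
    haveI : FiniteDimensional k (Submodule.span k F) := FiniteDimensional.span_of_finite k hF
    exact Submodule.finiteDimensional_of_le hle
  · intro w hw
    apply mem_range_both
    · apply mem_range_left
      intro χ
      exact hRc χ w hw
    · apply mem_range_right
      intro χ
      exact hLc χ w hw

end Coalg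

section Hopf

open HopfAlgebra WithConv

variable {k : Type u} [Field k] {A : Type v} [CommRing A] [HopfAlgebra k A]

/-- The antipode of a commutative Hopf algebra is an involution. -/
lemma antipode_antipode (a : A) : antipode k (antipode k a) = a := by
  have h := inv_inv (toConv (AlgHom.id k A))
  have h2 := congrArg (fun f => f.ofConv a) h
  exact h2

/-- The antipode is an anti-coalgebra map. -/
lemma comul_antipode (a : A) : comul (R := k) (antipode k a) =
    TensorProduct.map (antipode k) (antipode k) (TensorProduct.comm k A A (comul (R := k) a)) := by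
  let iL : WithConv (A →ₐ[k] A ⊗[k] A) := toConv Algebra.TensorProduct.includeLeft
  let iR : WithConv (A →ₐ[k] A ⊗[k] A) := toConv Algebra.TensorProduct.includeRight
  have e1 : iL * iR = toConv (Bialgebra.comulAlgHom k A) := by
    apply WithConv.ext
    apply AlgHom.ext
    intro b
    change (iL * iR) b = _
    rw [AlgHom.convMul_apply]
    simp [iL, iR]
  have e2 : (toConv (Bialgebra.comulAlgHom k A))⁻¹ = iR⁻¹ * iL⁻¹ := by
    rw [← e1]
    exact mul_inv_rev iL iR
  have e3 := congrArg (fun f => f.ofConv a) e2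
  have e4 : (Algebra.TensorProduct.lift
      ((Algebra.TensorProduct.includeRight : A →ₐ[k] A ⊗[k] A).comp (antipodeAlgHom k A))
      ((Algebra.TensorProduct.includeLeft : A →ₐ[k] A ⊗[k] A).comp (antipodeAlgHom k A))
      (fun _ _ => .all ..)).toLinearMap
      = TensorProduct.map (antipode k) (antipode k) ∘ₗ (TensorProduct.comm k A A).toLinearMap := by
    ext p q
    simp
  change comul (R := k) (antipode k a) = (iR⁻¹ * iL⁻¹) a at e3
  rw [e3, AlgHom.convMul_apply]
  exact LinearMap.congr_fun e4 (comul a)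

omit [Field k] in
lemma range_map_le_of_comp {k : Type u} [CommRing k] {M N P : Type v} [AddCommGroup M] [Module k M]
    [AddCommGroup N] [Module k N] [AddCommGroup P] [Module k P]
    (f : M →ₗ[k] P) (g : N →ₗ[k] P) (j : M →ₗ[k] N) (h : g ∘ₗ j = f) :
    LinearMap.range (TensorProduct.map f f) ≤ LinearMap.range (TensorProduct.map g g) := by
  rintro _ ⟨s, rfl⟩
  refine ⟨TensorProduct.map j j s, ?_⟩
  rw [← LinearMap.comp_apply, ← TensorProduct.map_comp, h]

/-- Main theorem: every element of a commutative Hopf algebra over a field lies in a finitely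
generated sub-Hopf-algebra. -/
theorem exists_fg_hopf_subalgebra (x : A) : ∃ B : Subalgebra k A, x ∈ B ∧ B.FG ∧
    (∀ b ∈ B, comul (R := k) b ∈
      LinearMap.range (TensorProduct.map B.val.toLinearMap B.val.toLinearMap)) ∧
    ∀ b ∈ B, antipode k b ∈ B := by
  classical
  obtain ⟨W, hxW, hfd, hΔ⟩ := exists_fd_subcoalgebra (k := k) x
  obtain ⟨F, hF⟩ : W.FG := (Submodule.fg_iff_finiteDimensional W).2 hfd
  let G : Finset A := F ∪ F.image (antipode k)
  let B : Subalgebra k A := Algebra.adjoin k (G : Set A)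
  have hGB : ∀ g ∈ G, g ∈ B := fun g hg => Algebra.subset_adjoin hg
  have hFW : ∀ f ∈ F, f ∈ W := fun f hf => hF ▸ Submodule.subset_span hf
  have hWB : ∀ w ∈ W, w ∈ B := by
    intro w hw
    have : W ≤ Subalgebra.toSubmodule B := by
      rw [← hF, Submodule.span_le]
      intro f hf
      exact hGB f (Finset.mem_union_left _ hf)
    exact this hw
  have hSWB : ∀ w ∈ W, antipode k w ∈ B := by
    intro w hw
    have : W.map (antipode k) ≤ Subalgebra.toSubmodule B := by
      rw [← hF, Submodule.map_span_le]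
      intro f hf
      exact hGB _ (Finset.mem_union_right _ (Finset.mem_image_of_mem _ hf))
    exact this (Submodule.mem_map_of_mem hw)
  refine ⟨B, hWB x hxW, ⟨G, rfl⟩, ?_, ?_⟩
  · -- comultiplication
    let T : Subalgebra k (A ⊗[k] A) := (Algebra.TensorProduct.map B.val B.val).range
    have hT : ∀ t, t ∈ T ↔ t ∈ LinearMap.range
        (TensorProduct.map B.val.toLinearMap B.val.toLinearMap) := by
      intro t
      constructor
      · rintro ⟨s, rfl⟩
        exact ⟨s, rfl⟩
      · rintro ⟨s, rfl⟩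
        exact ⟨s, rfl⟩
    let B' : Subalgebra k A := T.comap (Bialgebra.comulAlgHom k A)
    have hle : B ≤ B' := by
      apply Algebra.adjoin_le
      intro g hg
      change comul (R := k) g ∈ T
      rw [hT]
      rcases Finset.mem_union.1 hg with hgF | hgS
      · -- g ∈ F ⊆ W
        have h1 := hΔ g (hFW g hgF)
        let j : W →ₗ[k] B :=
          { toFun := fun w => ⟨w.1, hWB w.1 w.2⟩
            map_add' := fun _ _ => rfl
            map_smul' := fun _ _ => rfl }
        exact range_map_le_of_comp W.subtype B.val.toLinearMap j (by ext w; rfl) h1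
      · obtain ⟨f, hfF, rfl⟩ := Finset.mem_image.1 hgS
        obtain ⟨s, hs⟩ := hΔ f (hFW f hfF)
        rw [comul_antipode, ← hs]
        let j : W →ₗ[k] B :=
          { toFun := fun w => ⟨antipode k w.1, hSWB w.1 w.2⟩
            map_add' := fun _ _ => by ext; simp
            map_smul' := fun _ _ => by ext; simp }
        refine ⟨TensorProduct.map j j (TensorProduct.comm k W W s), ?_⟩
        rw [← LinearMap.comp_apply, ← TensorProduct.map_comp]
        have hj : B.val.toLinearMap ∘ₗ j = antipode k ∘ₗ W.subtype := by ext w; rfl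
        rw [hj]
        have key : ∀ s : W ⊗[k] W,
            TensorProduct.map (antipode k ∘ₗ W.subtype) (antipode k ∘ₗ W.subtype)
              (TensorProduct.comm k W W s) =
            TensorProduct.map (antipode k) (antipode k)
              (TensorProduct.comm k A A (TensorProduct.map W.subtype W.subtype s)) := by
          intro s
          induction s using TensorProduct.induction_on with
          | zero => simp
          | tmul p q => simp
          | add a b ha hb => simp only [map_add, ha, hb]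
        exact key s
    intro b hb
    exact (hT _).1 (hle hb)
  · -- antipode
    let B' : Subalgebra k A := B.comap (antipodeAlgHom k A)
    have hle : B ≤ B' := by
      apply Algebra.adjoin_le
      intro g hg
      change antipode k g ∈ B
      rcases Finset.mem_union.1 hg with hgF | hgS
      · exact hGB _ (Finset.mem_union_right _ (Finset.mem_image_of_mem _ hgF))
      · obtain ⟨f, hfF, rfl⟩ := Finset.mem_image.1 hgS
        rw [antipode_antipode]
        exact hGB _ (Finset.mem_union_left _ hfF)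
    intro b hb
    exact hle hb

end Hopf

end Groth.Agent.Helper2.HopfFGU
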