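import Mathlib

/-!
# Descent of (faithful) flatness along a jointly surjective family of flat covers (helper2)
-/

set_option autoImplicit false
universe u v w
open TensorProduct

namespace Groth.Agent.Helper2.FF

variable {A : Type u} [CommRing A] {N : Type v} [AddCommGroup N] [Module A N]

/-- one step: a flat cover kills a non-trivial element of the kernel -/
lemma flat_step (I : Ideal A) (x : I ⊗[A] N) (hx : LinearMap.rTensor N I.subtype x = 0)
    (𝔪 : Ideal A) (h𝔪 : LinearMap.ker (LinearMap.toSpanSingleton A (I ⊗[A] N) x) ≤ 𝔪)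
    (A'' : Type w) [CommRing A''] [Algebra A A''] [Module.Flat A A'']
    [Module.Flat A (A'' ⊗[A] N)] : Ideal.map (algebraMap A A'') 𝔪 = ⊤ := by
  set u := LinearMap.toSpanSingleton A (I ⊗[A] N) x with hu
  set J := LinearMap.ker u with hJ
  -- `1 ⊗ x = 0`
  have h1 : (1 : A'') ⊗ₜ[A] x = 0 := by
    have hinj : Function.Injective (LinearMap.rTensor (A'' ⊗[A] N) I.subtype) :=
      Module.Flat.rTensor_preserves_injective_linearMap _ Subtype.val_injective
    have hcomm : ∀ z : A'' ⊗[A] (I ⊗[A] N),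
        (TensorProduct.leftComm A A'' A N) (LinearMap.lTensor A'' (LinearMap.rTensor N I.subtype) z) =
          LinearMap.rTensor (A'' ⊗[A] N) I.subtype ((TensorProduct.leftComm A A'' I N) z) := by
      intro z
      induction z using TensorProduct.induction_on with
      | zero => simp
      | tmul a y =>
        induction y using TensorProduct.induction_on with
        | zero => simp
        | tmul i n => simp
        | add y₁ y₂ h₁ h₂ => simp only [tmul_add, map_add, h₁, h₂]
      | add z₁ z₂ h₁ h₂ => simp only [map_add, h₁, h₂]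
    have h2 := hcomm ((1 : A'') ⊗ₜ[A] x)
    rw [LinearMap.lTensor_tmul, hx, tmul_zero, map_zero] at h2
    have h3 := hinj (h2.symm.trans (map_zero _).symm)
    exact (TensorProduct.leftComm A A'' I N).injective (h3.trans (map_zero _).symm)
  have hex : Function.Exact (LinearMap.lTensor A'' J.subtype) (LinearMap.lTensor A'' u) :=
    Module.Flat.lTensor_exact A'' (LinearMap.exact_subtype_ker_map u)
  have h4 : LinearMap.lTensor A'' u ((1 : A'') ⊗ₜ[A] (1 : A)) = 0 := by
    rw [LinearMap.lTensor_tmul, hu, LinearMap.toSpanSingleton_apply, one_smul, h1]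
  obtain ⟨z, hz⟩ := (hex _).mp h4
  -- apply the multiplication map
  have key : ∀ z : A'' ⊗[A] J, (TensorProduct.rid A A'') (LinearMap.lTensor A'' J.subtype z) ∈
      Ideal.map (algebraMap A A'') 𝔪 := by
    intro z
    induction z using TensorProduct.induction_on with
    | zero => simp
    | tmul a j =>
      rw [LinearMap.lTensor_tmul, TensorProduct.rid_tmul, Submodule.subtype_apply,
        Algebra.smul_def]
      exact Ideal.mul_mem_right _ _ (Ideal.mem_map_of_mem _ (h𝔪 j.2))
    | add z₁ z₂ h₁ h₂ => rw [map_add, map_add]; exact Ideal.add_mem _ h₁ h₂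
  have := key z
  rw [hz, TensorProduct.rid_tmul, one_smul] at this
  exact (Ideal.eq_top_iff_one _).mpr this

theorem flat_of_forall_maximal
    (h : ∀ (𝔪 : Ideal A), 𝔪.IsMaximal → ∃ (A'' : Type w) (_ : CommRing A'') (_ : Algebra A A''),
       Module.Flat A A'' ∧ Ideal.map (algebraMap A A'') 𝔪 ≠ ⊤ ∧ Module.Flat A'' (A'' ⊗[A] N)) :
    Module.Flat A N := by
  rw [Module.Flat.iff_rTensor_injective']
  intro I
  rw [injective_iff_map_eq_zero]
  intro x hx
  by_contra hne
  have hJ : LinearMap.ker (LinearMap.toSpanSingleton A (I ⊗[A] N) x) ≠ ⊤ := by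
    intro htop
    have : (1 : A) ∈ LinearMap.ker (LinearMap.toSpanSingleton A (I ⊗[A] N) x) := by
      rw [htop]; exact Submodule.mem_top
    rw [LinearMap.mem_ker, LinearMap.toSpanSingleton_apply, one_smul] at this
    exact hne this
  obtain ⟨𝔪, hmax, hle⟩ := Ideal.exists_le_maximal _ hJ
  obtain ⟨A'', _, _, hfl, hne', hfl'⟩ := h 𝔪 hmax
  haveI : Module.Flat A (A'' ⊗[A] N) := Module.Flat.trans A A'' _
  exact hne' (flat_step I x hx 𝔪 hle A'')

theorem faithfullyFlat_of_forall_maximal
    (h : ∀ (𝔪 : Ideal A), 𝔪.IsMaximal → ∃ (A'' : Type w) (_ : CommRing A'') (_ : Algebra A A''),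
       Module.Flat A A'' ∧ Ideal.map (algebraMap A A'') 𝔪 ≠ ⊤ ∧
         Module.FaithfullyFlat A'' (A'' ⊗[A] N)) :
    Module.FaithfullyFlat A N := by
  have hflat : Module.Flat A N := by
    apply flat_of_forall_maximal
    intro 𝔪 hmax
    obtain ⟨A'', i1, i2, hfl, hne', hfl'⟩ := h 𝔪 hmax
    exact ⟨A'', i1, i2, hfl, hne', inferInstance⟩
  rw [Module.FaithfullyFlat.iff_flat_and_ideal_smul_eq_top]
  refine ⟨hflat, ?_⟩
  intro I hI
  by_contra hne
  obtain ⟨𝔪, hmax, hle⟩ := Ideal.exists_le_maximal _ hne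
  obtain ⟨A'', _, _, hfl, hne', hfl'⟩ := h 𝔪 hmax
  have h𝔪 : 𝔪 • (⊤ : Submodule A N) = ⊤ := by
    rw [eq_top_iff]
    calc (⊤ : Submodule A N) = I • (⊤ : Submodule A N) := hI.symm
      _ ≤ 𝔪 • (⊤ : Submodule A N) := Submodule.smul_mono hle le_rfl
  apply hne'
  apply ((Module.FaithfullyFlat.iff_flat_and_ideal_smul_eq_top A'' (A'' ⊗[A] N)).mp hfl').2
  rw [eq_top_iff]
  intro z hz
  clear hz
  induction z using TensorProduct.induction_on with
  | zero => exact Submodule.zero_mem _
  | tmul a n =>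
    have hn : n ∈ 𝔪 • (⊤ : Submodule A N) := by rw [h𝔪]; exact Submodule.mem_top
    refine Submodule.smul_induction_on (p := fun n => a ⊗ₜ[A] n ∈
      Ideal.map (algebraMap A A'') 𝔪 • (⊤ : Submodule A'' (A'' ⊗[A] N))) hn
      (fun r hr n _ => ?_) (fun x y hx hy => ?_)
    · have : a ⊗ₜ[A] (r • n) = (algebraMap A A'' r) • (a ⊗ₜ[A] n) := by
        calc a ⊗ₜ[A] (r • n) = (r • a) ⊗ₜ[A] n := (TensorProduct.smul_tmul r a n).symm
          _ = (algebraMap A A'' r * a) ⊗ₜ[A] n := by rw [Algebra.smul_def]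
          _ = (algebraMap A A'' r) • (a ⊗ₜ[A] n) := by rw [TensorProduct.smul_tmul', smul_eq_mul]
      rw [this]
      exact Submodule.smul_mem_smul (Ideal.mem_map_of_mem _ hr) Submodule.mem_top
    · rw [tmul_add]; exact Submodule.add_mem _ hx hy
  | add z₁ z₂ h₁ h₂ => exact Submodule.add_mem _ h₁ h₂

end Groth.Agent.Helper2.FF
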