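import Mathlib
import Groth.Agent.Lib.Helper2.FF.Desc

set_option autoImplicit false
universe u v w
open TensorProduct

namespace Groth.Agent.Helper2.FF

/-- descent of faithful flatness through pushout squares of rings -/
theorem faithfullyFlat_of_pushouts {A : Type u} {B : Type v} [CommRing A] [CommRing B]
    (f : A →+* B)
    (h : ∀ 𝔪 : Ideal A, 𝔪.IsMaximal → ∃ (A'' : Type w) (_ : CommRing A'') (Y : Type w)
       (_ : CommRing Y) (ψ : A →+* A'') (u : A'' →+* Y) (v : B →+* Y),
       ψ.Flat ∧ Ideal.map ψ 𝔪 ≠ ⊤ ∧ u.FaithfullyFlat ∧ u.comp ψ = v.comp f ∧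
       (∀ (Z : Type (max v w)) [CommRing Z] (u' : A'' →+* Z) (v' : B →+* Z),
          u'.comp ψ = v'.comp f → ∃ t : Y →+* Z, t.comp u = u' ∧ t.comp v = v')) :
    f.FaithfullyFlat := by
  letI := f.toAlgebra
  show Module.FaithfullyFlat A B
  apply faithfullyFlat_of_forall_maximal.{u, v, w}
  intro 𝔪 hmax
  obtain ⟨A'', _, Y, _, ψ, u, v, hψ, hne, hu, hcomm, hUP⟩ := h 𝔪 hmax
  letI : Algebra A A'' := ψ.toAlgebra
  refine ⟨A'', inferInstance, inferInstance, hψ, hne, ?_⟩
  letI : Algebra A'' Y := u.toAlgebra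
  letI : Algebra A Y := (u.comp ψ).toAlgebra
  haveI : IsScalarTower A A'' Y := IsScalarTower.of_algebraMap_eq (fun _ => rfl)
  haveI hYff : Module.FaithfullyFlat A'' Y := hu
  let vA : B →ₐ[A] Y :=
    { v with commutes' := fun a => (RingHom.congr_fun hcomm a).symm }
  let c : A'' ⊗[A] B →ₐ[A''] Y :=
    Algebra.TensorProduct.lift (Algebra.ofId A'' Y) vA (fun _ _ => Commute.all _ _)
  have hc : ∀ (a : A'') (b : B), c (a ⊗ₜ[A] b) = u a * v b := by
    intro a b
    show Algebra.TensorProduct.lift (Algebra.ofId A'' Y) vA _ (a ⊗ₜ[A] b) = _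
    rw [Algebra.TensorProduct.lift_tmul]
    rfl
  obtain ⟨t, ht1, ht2⟩ := hUP (A'' ⊗[A] B)
    (Algebra.TensorProduct.includeLeft : A'' →ₐ[A] A'' ⊗[A] B).toRingHom
    (Algebra.TensorProduct.includeRight : B →ₐ[A] A'' ⊗[A] B).toRingHom (by
      ext a
      show (ψ a) ⊗ₜ[A] (1 : B) = (1 : A'') ⊗ₜ[A] (f a)
      have h1 : ψ a = a • (1 : A'') := (Algebra.algebraMap_eq_smul_one a)
      have h2 : f a = a • (1 : B) := (Algebra.algebraMap_eq_smul_one a)
      rw [h1, h2, TensorProduct.smul_tmul])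
  have ht1' : ∀ a, t (u a) = a ⊗ₜ[A] (1 : B) := fun a => RingHom.congr_fun ht1 a
  have ht2' : ∀ b, t (v b) = (1 : A'') ⊗ₜ[A] b := fun b => RingHom.congr_fun ht2 b
  have htc : ∀ x, t (c x) = x := by
    intro x
    induction x using TensorProduct.induction_on with
    | zero => rw [map_zero, map_zero]
    | tmul a b =>
      rw [hc, map_mul, ht1', ht2', Algebra.TensorProduct.tmul_mul_tmul, mul_one, one_mul]
    | add x y hx hy => rw [map_add, map_add, hx, hy]
  have hsmulY : ∀ (a : A'') (y : Y), a • y = u a * y := fun a y => Algebra.smul_def a y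
  have hsmulX : ∀ (a : A'') (x : A'' ⊗[A] B), a • x = (a ⊗ₜ[A] (1 : B)) * x := by
    intro a x
    induction x using TensorProduct.induction_on with
    | zero => rw [smul_zero, mul_zero]
    | tmul x z => rw [TensorProduct.smul_tmul', Algebra.TensorProduct.tmul_mul_tmul, one_mul,
        smul_eq_mul]
    | add x y hx hy => rw [smul_add, mul_add, hx, hy]
  let tL : Y →ₗ[A''] A'' ⊗[A] B :=
    { toFun := t
      map_add' := map_add t
      map_smul' := fun a y => by
        simp only [RingHom.id_apply]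
        rw [hsmulY, hsmulX, map_mul, ht1'] }
  haveI hflat : Module.Flat A'' (A'' ⊗[A] B) := by
    refine Module.Flat.of_retract (M := Y) c.toLinearMap tL ?_
    apply LinearMap.ext
    intro x
    exact htc x
  rw [Module.FaithfullyFlat.iff_flat_and_ideal_smul_eq_top]
  refine ⟨hflat, ?_⟩
  intro I hI
  apply ((Module.FaithfullyFlat.iff_flat_and_ideal_smul_eq_top A'' Y).mp hYff).2
  have h1 : (1 : A'' ⊗[A] B) ∈ I • (⊤ : Submodule A'' (A'' ⊗[A] B)) := by
    rw [hI]; exact Submodule.mem_top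
  have h2 : (1 : Y) ∈ I • (⊤ : Submodule A'' Y) := by
    have : c.toLinearMap 1 ∈ Submodule.map c.toLinearMap (I • (⊤ : Submodule A'' (A'' ⊗[A] B))) :=
      Submodule.mem_map_of_mem h1
    rw [Submodule.map_smul''] at this
    have h3 : c.toLinearMap 1 = 1 := map_one c
    rw [h3] at this
    exact Submodule.smul_mono le_rfl le_top this
  rw [eq_top_iff]
  intro y _
  have hy : y = y * 1 := (mul_one y).symm
  rw [hy]
  refine Submodule.smul_induction_on (p := fun z => y * z ∈ I • (⊤ : Submodule A'' Y)) h2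
    (fun r hr n _ => ?_) (fun x z hx hz => ?_)
  · rw [mul_smul_comm]
    exact Submodule.smul_mem_smul hr Submodule.mem_top
  · rw [mul_add]
    exact Submodule.add_mem _ hx hz

end Groth.Agent.Helper2.FF
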