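import Mathlib
import Groth.Agent.Lib.Helper2.Hopf.BialgTransport

set_option autoImplicit false
universe u v w
open TensorProduct WithConv

namespace Groth.Agent.Helper2.FF

open Groth.Agent.Helper2.HopfLib

section
variable {k : Type u} [CommRing k] {A : Type v} {B : Type w} [CommRing A] [CommRing B]
  [HopfAlgebra k A] [HopfAlgebra k B] (f : A →ₐc[k] B)

/-- the ideal of `B` generated by the augmentation ideal of `A` -/
def augExt : Ideal B := Ideal.map (f : A →+* B) (RingHom.ker (Bialgebra.counitAlgHom k A))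

/-- the quotient Hopf algebra (only its algebra structure is used) -/
abbrev Cq := B ⧸ augExt f

/-- the quotient map -/
noncomputable def piC : B →ₐ[k] Cq f := Ideal.Quotient.mkₐ k (augExt f)

lemma piC_f (a : A) : piC f (f a) = algebraMap k (Cq f) (Coalgebra.counit (R := k) a) := by
  have h1 : a - algebraMap k A (Coalgebra.counit (R := k) a) ∈
      RingHom.ker (Bialgebra.counitAlgHom k A) := by
    rw [RingHom.mem_ker, map_sub, AlgHom.commutes]
    simp
  have h2 : f (a - algebraMap k A (Coalgebra.counit (R := k) a)) ∈ augExt f :=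
    Ideal.mem_map_of_mem _ h1
  have h3 : piC f (f (a - algebraMap k A (Coalgebra.counit (R := k) a))) = 0 := by
    unfold piC
    rw [Ideal.Quotient.mkₐ_eq_mk, Ideal.Quotient.eq_zero_iff_mem]
    exact h2
  rw [map_sub, map_sub, sub_eq_zero] at h3
  rw [h3]
  have : f (algebraMap k A (Coalgebra.counit (R := k) a)) =
      algebraMap k B (Coalgebra.counit (R := k) a) := AlgHomClass.commutes f _
  rw [this, AlgHom.commutes]

/-- inverse law in the convolution monoid, left version -/
lemma comp_id_mul_antipode {T : Type*} [CommRing T] [Algebra k T] (w : B →ₐ[k] T) :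
    toConv w * toConv (w.comp (HopfAlgebra.antipodeAlgHom k B)) = 1 := by
  have h1 : toConv (AlgHom.id k B) * toConv (HopfAlgebra.antipodeAlgHom k B) = 1 :=
    mul_inv_cancel (toConv (AlgHom.id k B))
  have h2 := AlgHom.comp_convMul_distrib w (toConv (AlgHom.id k B))
    (toConv (HopfAlgebra.antipodeAlgHom k B))
  rw [h1] at h2
  apply WithConv.ofConv_injective
  simp only [AlgHom.comp_id] at h2
  rw [← h2]
  ext b
  simp [AlgHom.convOne_apply]

/-- inverse law in the convolution monoid, right version -/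
lemma comp_antipode_mul_id {T : Type*} [CommRing T] [Algebra k T] (w : B →ₐ[k] T) :
    toConv (w.comp (HopfAlgebra.antipodeAlgHom k B)) * toConv w = 1 := by
  have h1 : toConv (HopfAlgebra.antipodeAlgHom k B) * toConv (AlgHom.id k B) = 1 :=
    AlgHom.antipode_id_cancel
  have h2 := AlgHom.comp_convMul_distrib w (toConv (HopfAlgebra.antipodeAlgHom k B))
    (toConv (AlgHom.id k B))
  rw [h1] at h2
  apply WithConv.ofConv_injective
  simp only [AlgHom.comp_id] at h2
  rw [← h2]
  ext b
  simp [AlgHom.convOne_apply]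

/-- `b ↦ Σ b₁ ⊗ [b₂]` -/
noncomputable def f2 : B →ₐ[k] B ⊗[k] Cq f :=
  (toConv (Algebra.TensorProduct.includeLeft : B →ₐ[k] B ⊗[k] Cq f) *
    toConv ((Algebra.TensorProduct.includeRight : Cq f →ₐ[k] B ⊗[k] Cq f).comp (piC f))).ofConv

lemma f2_comp_f : (f2 f).comp (f : A →ₐ[k] B) =
    (Algebra.TensorProduct.includeLeft : B →ₐ[k] B ⊗[k] Cq f).comp (f : A →ₐ[k] B) := by
  unfold f2
  rw [AlgHom.convMul_comp_bialgHom_distrib]
  have h1 : toConv (((Algebra.TensorProduct.includeRight : Cq f →ₐ[k] B ⊗[k] Cq f).comp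
      (piC f)).comp (f : A →ₐ[k] B)) = (1 : WithConv (A →ₐ[k] B ⊗[k] Cq f)) := by
    apply WithConv.ofConv_injective
    ext a
    show (1 : B) ⊗ₜ[k] (piC f (f a)) = _
    rw [piC_f, AlgHom.convOne_apply, Algebra.TensorProduct.algebraMap_apply,
      Algebra.algebraMap_eq_smul_one, Algebra.algebraMap_eq_smul_one, TensorProduct.smul_tmul]
  rw [h1]
  have h2 : ∀ x : WithConv (A →ₐ[k] B ⊗[k] Cq f), x * 1 = x := fun x => mul_one x
  rw [h2, ofConv_toConv]


variable [Algebra A B] [IsScalarTower k A B] (hf : ∀ a, algebraMap A B a = f a)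

/-- left inclusion into `B ⊗[A] B` as a `k`-algebra map -/
noncomputable def inclL : B →ₐ[k] B ⊗[A] B :=
  (Algebra.TensorProduct.includeLeft : B →ₐ[A] B ⊗[A] B).restrictScalars k

/-- right inclusion into `B ⊗[A] B` as a `k`-algebra map -/
noncomputable def inclR : B →ₐ[k] B ⊗[A] B :=
  (Algebra.TensorProduct.includeRight : B →ₐ[A] B ⊗[A] B).restrictScalars k

@[simp] lemma inclL_apply (b : B) : inclL (k := k) (A := A) b = b ⊗ₜ[A] (1 : B) := rfl
@[simp] lemma inclR_apply (b : B) : inclR (k := k) (A := A) b = (1 : B) ⊗ₜ[A] b := rfl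

lemma inclR_alg (a : A) : inclR (k := k) (A := A) (algebraMap A B a) =
    inclL (k := k) (A := A) (algebraMap A B a) := by
  rw [inclR_apply, inclL_apply, Algebra.algebraMap_eq_smul_one, TensorProduct.smul_tmul]

/-- `c ↦ Σ S(c₁) ⊗_A c₂` -/
noncomputable def g2' : B →ₐ[k] B ⊗[A] B :=
  (toConv ((inclL (k := k) (A := A)).comp (HopfAlgebra.antipodeAlgHom k B)) *
    toConv (inclR (k := k) (A := A))).ofConv

include hf in
lemma g2'_comp_f : (g2' (k := k) (A := A) (B := B)).comp (f : A →ₐ[k] B) =
    (Algebra.ofId k (B ⊗[A] B)).comp (Bialgebra.counitAlgHom k A) := by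
  unfold g2'
  rw [AlgHom.convMul_comp_bialgHom_distrib]
  have h1 : (inclR (k := k) (A := A)).comp (f : A →ₐ[k] B) =
      (inclL (k := k) (A := A)).comp (f : A →ₐ[k] B) := by
    ext a
    show inclR (k := k) (A := A) (f a) = inclL (k := k) (A := A) (f a)
    rw [← hf, inclR_alg]
  have h2 : ((inclL (k := k) (A := A)).comp (HopfAlgebra.antipodeAlgHom k B)).comp
      (f : A →ₐ[k] B) = ((inclL (k := k) (A := A)).comp (f : A →ₐ[k] B)).comp
        (HopfAlgebra.antipodeAlgHom k A) := by
    ext a
    show inclL (k := k) (A := A) (HopfAlgebra.antipode k (f a)) =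
      inclL (k := k) (A := A) (f (HopfAlgebra.antipode k a))
    rw [bialgHom_antipode_apply]
  rw [h1, h2, comp_antipode_mul_id]
  rfl


include hf in
lemma g2'_mem (x : B) (hx : x ∈ augExt f) : g2' (k := k) (A := A) (B := B) x = 0 := by
  have hle : augExt f ≤ RingHom.ker (g2' (k := k) (A := A) (B := B)) := by
    unfold augExt
    rw [Ideal.map_le_iff_le_comap]
    intro a ha
    rw [Ideal.mem_comap, RingHom.mem_ker]
    have h1 := AlgHom.congr_fun (g2'_comp_f f hf) a
    have h2 : (Bialgebra.counitAlgHom k A) a = 0 := ha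
    rw [AlgHom.comp_apply, AlgHom.comp_apply, h2, map_zero] at h1
    exact h1
  exact hle hx

/-- the map `C → B ⊗[A] B` -/
noncomputable def g2 : Cq f →ₐ[k] B ⊗[A] B :=
  Ideal.Quotient.liftₐ (augExt f) (g2' (k := k) (A := A) (B := B)) (g2'_mem f hf)

lemma g2_comp_piC : (g2 f hf).comp (piC f) = g2' (k := k) (A := A) (B := B) := by
  ext b
  rfl

/-- the retraction `B ⊗[k] C → B ⊗[A] B` -/
noncomputable def Psi : B ⊗[k] Cq f →ₐ[k] B ⊗[A] B :=
  Algebra.TensorProduct.lift (inclL (k := k) (A := A)) (g2 f hf) (fun _ _ => Commute.all _ _)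

include hf in
lemma f2_alg (a : A) : f2 f (algebraMap A B a) = algebraMap A (B ⊗[k] Cq f) a := by
  rw [hf]
  have := AlgHom.congr_fun (f2_comp_f f) a
  rw [AlgHom.comp_apply, AlgHom.comp_apply] at this
  rw [show f2 f (f a) = f2 f ((f : A →ₐ[k] B) a) from rfl, this,
    Algebra.TensorProduct.algebraMap_apply, hf]
  rfl

/-- `f2` as an `A`-algebra map -/
noncomputable def f2A : B →ₐ[A] B ⊗[k] Cq f :=
  { (f2 f : B →+* B ⊗[k] Cq f) with commutes' := f2_alg f hf }

/-- the section `B ⊗[A] B → B ⊗[k] C` -/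
noncomputable def Phi : B ⊗[A] B →ₐ[A] B ⊗[k] Cq f :=
  Algebra.TensorProduct.lift (Algebra.TensorProduct.includeLeft : B →ₐ[A] B ⊗[k] Cq f)
    (f2A f hf) (fun _ _ => Commute.all _ _)

lemma Psi_comp_f2 : (Psi f hf).comp (f2 f) = inclR (k := k) (A := A) := by
  unfold f2
  rw [AlgHom.comp_convMul_distrib]
  have h1 : (Psi f hf).comp (Algebra.TensorProduct.includeLeft : B →ₐ[k] B ⊗[k] Cq f) =
      inclL (k := k) (A := A) := by
    unfold Psi
    exact Algebra.TensorProduct.lift_comp_includeLeft _ _ _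
  have h2 : (Psi f hf).comp ((Algebra.TensorProduct.includeRight :
      Cq f →ₐ[k] B ⊗[k] Cq f).comp (piC f)) = g2' (k := k) (A := A) (B := B) := by
    rw [← g2_comp_piC f hf, ← AlgHom.comp_assoc]
    congr 1
    ext c
    unfold Psi
    show (Algebra.TensorProduct.lift (inclL (k := k) (A := A)) (g2 f hf)
      (fun _ _ => Commute.all _ _)) ((1 : B) ⊗ₜ[k] c) = _
    rw [Algebra.TensorProduct.lift_tmul, map_one, one_mul]
  rw [h1, h2]
  unfold g2'
  rw [toConv_ofConv, ← mul_assoc, comp_id_mul_antipode, one_mul, ofConv_toConv]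

lemma Psi_Phi (x : B ⊗[A] B) : Psi f hf (Phi f hf x) = x := by
  induction x using TensorProduct.induction_on with
  | zero => rw [map_zero, map_zero]
  | tmul b b' =>
    unfold Phi
    rw [Algebra.TensorProduct.lift_tmul, map_mul]
    have h1 : Psi f hf ((Algebra.TensorProduct.includeLeft : B →ₐ[A] B ⊗[k] Cq f) b) =
        b ⊗ₜ[A] (1 : B) := by
      unfold Psi
      rw [Algebra.TensorProduct.includeLeft_apply, Algebra.TensorProduct.lift_tmul, map_one,
        mul_one, inclL_apply]
    have h2 : Psi f hf (f2A f hf b') = (1 : B) ⊗ₜ[A] b' := by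
      have := AlgHom.congr_fun (Psi_comp_f2 f hf) b'
      rw [AlgHom.comp_apply, inclR_apply] at this
      exact this
    rw [h1, h2, Algebra.TensorProduct.tmul_mul_tmul, mul_one, one_mul]
  | add x y hx hy => rw [map_add, map_add, hx, hy]


omit [HopfAlgebra k A] [HopfAlgebra k B] [IsScalarTower k A B] in
lemma smul_left (b : B) (y : B ⊗[A] B) : b • y = (b ⊗ₜ[A] (1 : B)) * y := by
  induction y using TensorProduct.induction_on with
  | zero => rw [smul_zero, mul_zero]
  | tmul x z => rw [TensorProduct.smul_tmul', Algebra.TensorProduct.tmul_mul_tmul, one_mul,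
      smul_eq_mul]
  | add x y hx hy => rw [smul_add, mul_add, hx, hy]

lemma smul_left' (b : B) (y : B ⊗[k] Cq f) : b • y = (b ⊗ₜ[k] (1 : Cq f)) * y := by
  induction y using TensorProduct.induction_on with
  | zero => rw [smul_zero, mul_zero]
  | tmul x z => rw [TensorProduct.smul_tmul', Algebra.TensorProduct.tmul_mul_tmul, one_mul,
      smul_eq_mul]
  | add x y hx hy => rw [smul_add, mul_add, hx, hy]

/-- `Phi` as a `B`-linear map -/
noncomputable def PhiB : B ⊗[A] B →ₗ[B] B ⊗[k] Cq f where
  toFun := Phi f hf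
  map_add' := map_add _
  map_smul' b x := by
    simp only [RingHom.id_apply]
    rw [smul_left, smul_left', map_mul]
    congr 1
    unfold Phi
    rw [Algebra.TensorProduct.lift_tmul, map_one, mul_one]
    rfl

/-- `Psi` as a `B`-linear map -/
noncomputable def PsiB : B ⊗[k] Cq f →ₗ[B] B ⊗[A] B where
  toFun := Psi f hf
  map_add' := map_add _
  map_smul' b x := by
    simp only [RingHom.id_apply]
    rw [smul_left, smul_left', map_mul]
    congr 1
    unfold Psi
    rw [Algebra.TensorProduct.lift_tmul, map_one, mul_one]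
    rfl

include hf in
/-- `B ⊗[A] B` is a projective `B`-module (it is in fact free: `Spec B → Spec A` is a torsor
under the kernel). -/
theorem projective_tensor_self [Module.Projective k (Cq f)] :
    Module.Projective B (B ⊗[A] B) := by
  refine Module.Projective.of_split (PhiB f hf) (PsiB f hf) ?_
  apply LinearMap.ext
  intro x
  exact Psi_Phi f hf x

end

end Groth.Agent.Helper2.FF
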