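import Mathlib
import Groth.Agent.Lib.Helper2.FF.HopfRetract
import Groth.Agent.Lib.Helper2.Hopf.FiniteCoaction

set_option autoImplicit false
set_option maxSynthPendingDepth 3
universe u v w z
open TensorProduct WithConv

namespace Groth.Agent.Helper2.FF

section
variable {k : Type u} [CommRing k] {A : Type v} {B : Type w} [CommRing A] [CommRing B]
  [HopfAlgebra k A] [HopfAlgebra k B] (f : A →ₐc[k] B) (P : Ideal A) [P.IsPrime]

attribute [local instance] Algebra.TensorProduct.rightAlgebra

lemma flat_right [Module.Flat k B] : Module.Flat A (B ⊗[k] A) := by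
  let e : B ⊗[k] A ≃ₗ[A] A ⊗[k] B :=
    { (TensorProduct.comm k B A) with
      map_smul' := fun a x => by
        simp only [AddHom.toFun_eq_coe, LinearMap.coe_toAddHom, LinearEquiv.coe_coe,
          RingHom.id_apply]
        induction x using TensorProduct.induction_on with
        | zero => simp
        | tmul b a' =>
          rw [Algebra.smul_def, Algebra.TensorProduct.right_algebraMap_apply,
            Algebra.TensorProduct.tmul_mul_tmul, one_mul, TensorProduct.comm_tmul,
            TensorProduct.comm_tmul, TensorProduct.smul_tmul', smul_eq_mul]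
        | add x y hx hy => rw [smul_add, map_add, hx, hy, map_add, smul_add] }
  exact Module.Flat.of_linearEquiv e

/-- `a ↦ Σ f(a₁) ⊗ a₂/1` -/
noncomputable def psi : A →ₐ[k] B ⊗[k] Localization.AtPrime P :=
  (toConv ((Algebra.TensorProduct.includeLeft : B →ₐ[k] B ⊗[k] Localization.AtPrime P).comp
      (f : A →ₐ[k] B)) *
    toConv ((Algebra.TensorProduct.includeRight :
      Localization.AtPrime P →ₐ[k] B ⊗[k] Localization.AtPrime P).comp
        (IsScalarTower.toAlgHom k A (Localization.AtPrime P)))).ofConv

open Groth.Agent.Helper2.HopfLib in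
/-- `psi` is flat -/
theorem psi_flat [Module.Flat k B] :
    (psi f P : A →+* B ⊗[k] Localization.AtPrime P).Flat := by
  have ha : (Algebra.TensorProduct.includeRight : A →ₐ[k] B ⊗[k] A).toRingHom.Flat :=
    flat_right
  have hb : ((GamEquiv (f : A →ₐ[k] B) : B ⊗[k] A ≃ₐ[B] B ⊗[k] A) :
      B ⊗[k] A →+* B ⊗[k] A).Flat :=
    RingHom.Flat.of_bijective (GamEquiv (f : A →ₐ[k] B)).bijective
  have hc0 : (IsScalarTower.toAlgHom k A (Localization.AtPrime P)).Flat := by
    show (algebraMap A (Localization.AtPrime P)).Flat
    rw [RingHom.flat_algebraMap_iff]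
    exact IsLocalization.flat _ P.primeCompl
  have hc : (Algebra.TensorProduct.lTensor (S := k) B
      (IsScalarTower.toAlgHom k A (Localization.AtPrime P))).Flat := RingHom.Flat.lTensor B hc0
  have e : (psi f P : A →+* B ⊗[k] Localization.AtPrime P) =
      ((Algebra.TensorProduct.lTensor (S := k) B
        (IsScalarTower.toAlgHom k A (Localization.AtPrime P)) :
          B ⊗[k] A →+* B ⊗[k] Localization.AtPrime P)).comp
        (((GamEquiv (f : A →ₐ[k] B) : B ⊗[k] A ≃ₐ[B] B ⊗[k] A) :
          B ⊗[k] A →+* B ⊗[k] A).comp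
            (Algebra.TensorProduct.includeRight : A →ₐ[k] B ⊗[k] A).toRingHom) := by
    have e1 : psi f P = (Algebra.TensorProduct.lTensor (S := k) B
        (IsScalarTower.toAlgHom k A (Localization.AtPrime P))).comp (tw (f : A →ₐ[k] B)) := by
      have h1 : (Algebra.TensorProduct.lTensor (S := k) B
          (IsScalarTower.toAlgHom k A (Localization.AtPrime P))).comp
          ((Algebra.TensorProduct.includeLeft : B →ₐ[k] B ⊗[k] A).comp (f : A →ₐ[k] B)) =
          (Algebra.TensorProduct.includeLeft : B →ₐ[k] B ⊗[k] Localization.AtPrime P).comp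
            (f : A →ₐ[k] B) := by
        ext a
        simp
      have h2 : (Algebra.TensorProduct.lTensor (S := k) B
          (IsScalarTower.toAlgHom k A (Localization.AtPrime P))).comp
          (Algebra.TensorProduct.includeRight : A →ₐ[k] B ⊗[k] A) =
          (Algebra.TensorProduct.includeRight :
            Localization.AtPrime P →ₐ[k] B ⊗[k] Localization.AtPrime P).comp
              (IsScalarTower.toAlgHom k A (Localization.AtPrime P)) := by
        ext a
        simp
      unfold psi tw
      rw [AlgHom.comp_convMul_distrib]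
      show _ = (toConv ((Algebra.TensorProduct.lTensor (S := k) B
          (IsScalarTower.toAlgHom k A (Localization.AtPrime P))).comp
          ((Algebra.TensorProduct.includeLeft : B →ₐ[k] B ⊗[k] A).comp (f : A →ₐ[k] B))) *
        toConv ((Algebra.TensorProduct.lTensor (S := k) B
          (IsScalarTower.toAlgHom k A (Localization.AtPrime P))).comp
          (Algebra.TensorProduct.includeRight : A →ₐ[k] B ⊗[k] A))).ofConv
      rw [h1, h2]
    apply RingHom.ext
    intro a
    have e2 := AlgHom.congr_fun e1 a
    refine Eq.trans e2 ?_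
    show _ = (Algebra.TensorProduct.lTensor (S := k) B
        (IsScalarTower.toAlgHom k A (Localization.AtPrime P)))
          (GamEquiv (f : A →ₐ[k] B) ((1 : B) ⊗ₜ[k] a))
    rw [GamEquiv_apply, Gam_tmul, AlgHom.comp_apply]
    congr 1
    rw [← Algebra.TensorProduct.one_def, one_mul]
  rw [e]
  exact RingHom.Flat.comp (RingHom.Flat.comp ha hb) hc

end

section
variable {k : Type u} [CommRing k] {A : Type v} {B : Type w} [CommRing A] [CommRing B]
  [HopfAlgebra k A] [HopfAlgebra k B] (f : A →ₐc[k] B)
  [Algebra A B] [IsScalarTower k A B] (hf : ∀ a, algebraMap A B a = f a)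
  (P : Ideal A) [P.IsPrime]

attribute [local instance] Algebra.TensorProduct.rightAlgebra

/-- the localisation of the base -/
local notation "Ap" => Localization.AtPrime P

/-- the target of the comparison -/
abbrev YY := (B ⊗[k] Localization.AtPrime P) ⊗[Localization.AtPrime P]
  (Localization.AtPrime P ⊗[A] B)

/-- `u : B ⊗ Ap → Y` -/
noncomputable def uu : B ⊗[k] Localization.AtPrime P →ₐ[k] YY (k := k) (B := B) P :=
  (Algebra.TensorProduct.includeLeft : B ⊗[k] Localization.AtPrime P →ₐ[Localization.AtPrime P]
    YY (k := k) (B := B) P).restrictScalars k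

/-- `B → Bp` -/
noncomputable def inclRp : B →ₐ[k] Localization.AtPrime P ⊗[A] B :=
  (Algebra.TensorProduct.includeRight : B →ₐ[A] Localization.AtPrime P ⊗[A] B).restrictScalars k

/-- `Bp → Y` -/
noncomputable def inclRY : Localization.AtPrime P ⊗[A] B →ₐ[k] YY (k := k) (B := B) P :=
  (Algebra.TensorProduct.includeRight : Localization.AtPrime P ⊗[A] B →ₐ[Localization.AtPrime P]
    YY (k := k) (B := B) P).restrictScalars k

/-- `b ↦ Σ (b₁ ⊗ 1) ⊗ (1 ⊗ b₂)` -/
noncomputable def vv : B →ₐ[k] YY (k := k) (B := B) P :=
  (toConv ((uu (k := k) (B := B) P).comp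
      (Algebra.TensorProduct.includeLeft : B →ₐ[k] B ⊗[k] Localization.AtPrime P)) *
    toConv ((inclRY (k := k) (B := B) P).comp (inclRp (k := k) (B := B) P))).ofConv


lemma uu_apply (x : B ⊗[k] Localization.AtPrime P) :
    uu (k := k) (B := B) (A := A) P x = x ⊗ₜ[Localization.AtPrime P] (1 : Localization.AtPrime P ⊗[A] B) := rfl

include hf in
/-- the square commutes -/
lemma uu_comp_psi : (uu (k := k) (B := B) P).comp (psi f P) =
    (vv (k := k) (B := B) P).comp (f : A →ₐ[k] B) := by
  unfold psi vv
  rw [AlgHom.comp_convMul_distrib, AlgHom.convMul_comp_bialgHom_distrib]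
  congr 3
  ext a
  show ((1 : B) ⊗ₜ[k] (algebraMap A (Localization.AtPrime P) a)) ⊗ₜ[Localization.AtPrime P]
      (1 : Localization.AtPrime P ⊗[A] B) =
    (1 : B ⊗[k] Localization.AtPrime P) ⊗ₜ[Localization.AtPrime P]
      ((1 : Localization.AtPrime P) ⊗ₜ[A] (f a))
  have h1 : ((1 : B) ⊗ₜ[k] (algebraMap A (Localization.AtPrime P) a)) =
      (algebraMap A (Localization.AtPrime P) a) • (1 : B ⊗[k] Localization.AtPrime P) := by
    rw [Algebra.smul_def, mul_one]
    rfl
  have h2 : ((1 : Localization.AtPrime P) ⊗ₜ[A] (f a)) =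
      (algebraMap A (Localization.AtPrime P) a) • (1 : Localization.AtPrime P ⊗[A] B) := by
    calc (1 : Localization.AtPrime P) ⊗ₜ[A] (f a)
        = (1 : Localization.AtPrime P) ⊗ₜ[A] (a • (1 : B)) := by
          rw [← hf, Algebra.algebraMap_eq_smul_one]
      _ = (a • (1 : Localization.AtPrime P)) ⊗ₜ[A] (1 : B) :=
          (TensorProduct.smul_tmul a 1 1).symm
      _ = (algebraMap A (Localization.AtPrime P) a) ⊗ₜ[A] (1 : B) := by
          rw [← Algebra.algebraMap_eq_smul_one]
      _ = (algebraMap A (Localization.AtPrime P) a) •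
            ((1 : Localization.AtPrime P) ⊗ₜ[A] (1 : B)) := by
          rw [TensorProduct.smul_tmul', smul_eq_mul, mul_one]
  rw [h1, h2, TensorProduct.smul_tmul]


include hf in
/-- the square is a pushout: existence of descent maps -/
theorem exists_desc (Z : Type z) [CommRing Z] (u' : B ⊗[k] Localization.AtPrime P →+* Z)
    (v' : B →+* Z)
    (h : u'.comp (psi f P : A →+* B ⊗[k] Localization.AtPrime P) = v'.comp (f : A →+* B)) :
    ∃ t : YY (k := k) (B := B) P →+* Z,
      t.comp (uu (k := k) (B := B) P : B ⊗[k] Localization.AtPrime P →+* YY (k := k) (B := B) P)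
        = u' ∧
      t.comp (vv (k := k) (B := B) P : B →+* YY (k := k) (B := B) P) = v' := by
  letI : Algebra (Localization.AtPrime P) Z :=
    (u'.comp (algebraMap (Localization.AtPrime P) (B ⊗[k] Localization.AtPrime P))).toAlgebra
  letI : Algebra A Z :=
    ((algebraMap (Localization.AtPrime P) Z).comp (algebraMap A (Localization.AtPrime P))).toAlgebra
  letI : Algebra k Z := ((algebraMap A Z).comp (algebraMap k A)).toAlgebra
  haveI : IsScalarTower A (Localization.AtPrime P) Z := .of_algebraMap_eq (fun _ => rfl)
  haveI : IsScalarTower k A Z := .of_algebraMap_eq (fun _ => rfl)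
  haveI : IsScalarTower k (Localization.AtPrime P) Z := .of_algebraMap_eq (fun r => by
    show algebraMap (Localization.AtPrime P) Z (algebraMap A (Localization.AtPrime P)
      (algebraMap k A r)) = _
    rw [← IsScalarTower.algebraMap_apply k A (Localization.AtPrime P)])
  let u'p : B ⊗[k] Localization.AtPrime P →ₐ[Localization.AtPrime P] Z :=
    { u' with commutes' := fun _ => rfl }
  let u'k : B ⊗[k] Localization.AtPrime P →ₐ[k] Z := u'p.restrictScalars k
  have hu'k : ∀ x, u'k x = u' x := fun _ => rfl
  let v'k : B →ₐ[k] Z :=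
    { v' with
      commutes' := fun r => by
        show v' (algebraMap k B r) = algebraMap k Z r
        have h1 : algebraMap k B r = f (algebraMap k A r) := (AlgHomClass.commutes f r).symm
        have h2 := RingHom.congr_fun h (algebraMap k A r)
        rw [RingHom.comp_apply, RingHom.comp_apply] at h2
        rw [h1]
        refine Eq.trans h2.symm ?_
        have h3 : (psi f P : A →+* B ⊗[k] Localization.AtPrime P) (algebraMap k A r) =
            algebraMap k (B ⊗[k] Localization.AtPrime P) r := AlgHom.commutes (psi f P) r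
        rw [h3, ← hu'k, AlgHom.commutes] }
  have hv'k : ∀ x, v'k x = v' x := fun _ => rfl
  let cB : B →ₐ[k] Z := u'k.comp
    (Algebra.TensorProduct.includeLeft : B →ₐ[k] B ⊗[k] Localization.AtPrime P)
  let w3 : B →ₐ[k] Z :=
    (toConv (cB.comp (HopfAlgebra.antipodeAlgHom k B)) * toConv v'k).ofConv
  have hw3f : w3.comp (f : A →ₐ[k] B) = IsScalarTower.toAlgHom k A Z := by
    show (toConv (cB.comp (HopfAlgebra.antipodeAlgHom k B)) * toConv v'k).ofConv.comp
      (f : A →ₐ[k] B) = _
    rw [AlgHom.convMul_comp_bialgHom_distrib]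
    have e1 : (cB.comp (HopfAlgebra.antipodeAlgHom k B)).comp (f : A →ₐ[k] B) =
        (cB.comp (f : A →ₐ[k] B)).comp (HopfAlgebra.antipodeAlgHom k A) := by
      ext a
      show cB (HopfAlgebra.antipode k (f a)) = cB (f (HopfAlgebra.antipode k a))
      rw [Groth.Agent.Helper2.HopfLib.bialgHom_antipode_apply]
    have e2 : v'k.comp (f : A →ₐ[k] B) = u'k.comp (psi f P) := by
      ext a
      exact (RingHom.congr_fun h a).symm
    have e3 : u'k.comp (psi f P) = (toConv (cB.comp (f : A →ₐ[k] B)) *
        toConv (IsScalarTower.toAlgHom k A Z)).ofConv := by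
      unfold psi
      rw [AlgHom.comp_convMul_distrib]
      rfl
    simp only [ofConv_toConv]
    rw [e1, e2, e3, toConv_ofConv, ← mul_assoc, comp_antipode_mul_id, one_mul, ofConv_toConv]
  let w3A : B →ₐ[A] Z :=
    { (w3 : B →+* Z) with
      commutes' := fun a => by
        show w3 (algebraMap A B a) = algebraMap A Z a
        rw [hf]
        exact AlgHom.congr_fun hw3f a }
  let w2 : Localization.AtPrime P ⊗[A] B →ₐ[Localization.AtPrime P] Z :=
    Algebra.TensorProduct.lift (Algebra.ofId (Localization.AtPrime P) Z) w3A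
      (fun _ _ => Commute.all _ _)
  let t : YY (k := k) (B := B) P →ₐ[Localization.AtPrime P] Z :=
    Algebra.TensorProduct.lift u'p w2 (fun _ _ => Commute.all _ _)
  refine ⟨t, ?_, ?_⟩
  · apply RingHom.ext
    intro x
    show t (x ⊗ₜ[Localization.AtPrime P] (1 : Localization.AtPrime P ⊗[A] B)) = u' x
    show Algebra.TensorProduct.lift u'p w2 (fun _ _ => Commute.all _ _) (x ⊗ₜ[Localization.AtPrime P] 1) = u' x
    rw [Algebra.TensorProduct.lift_tmul, map_one, mul_one]
    rfl
  · have key : (t.restrictScalars k).comp (vv (k := k) (B := B) P) = v'k := by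
      unfold vv
      rw [AlgHom.comp_convMul_distrib]
      have e1 : (t.restrictScalars k).comp ((uu (k := k) (B := B) P).comp
          (Algebra.TensorProduct.includeLeft : B →ₐ[k] B ⊗[k] Localization.AtPrime P)) = cB := by
        ext b
        show Algebra.TensorProduct.lift u'p w2 (fun _ _ => Commute.all _ _) ((b ⊗ₜ[k] (1 : Localization.AtPrime P))
          ⊗ₜ[Localization.AtPrime P] 1) = _
        rw [Algebra.TensorProduct.lift_tmul, map_one, mul_one]
        rfl
      have e2 : (t.restrictScalars k).comp ((inclRY (k := k) (B := B) P).comp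
          (inclRp (k := k) (B := B) P)) = w3 := by
        ext b
        show Algebra.TensorProduct.lift u'p w2 (fun _ _ => Commute.all _ _) ((1 : B ⊗[k] Localization.AtPrime P)
          ⊗ₜ[Localization.AtPrime P] ((1 : Localization.AtPrime P) ⊗ₜ[A] b)) = _
        rw [Algebra.TensorProduct.lift_tmul, map_one, one_mul]
        show Algebra.TensorProduct.lift (Algebra.ofId (Localization.AtPrime P) Z) w3A
          (fun _ _ => Commute.all _ _)
          ((1 : Localization.AtPrime P) ⊗ₜ[A] b) = _
        rw [Algebra.TensorProduct.lift_tmul, map_one, one_mul]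
        rfl
      simp only [ofConv_toConv]
      rw [e1, e2]
      show (toConv cB * toConv (toConv (cB.comp (HopfAlgebra.antipodeAlgHom k B)) *
        toConv v'k).ofConv).ofConv = v'k
      rw [toConv_ofConv, ← mul_assoc, comp_id_mul_antipode, one_mul, ofConv_toConv]
    apply RingHom.ext
    intro b
    exact AlgHom.congr_fun key b


/-- `u` is faithfully flat when `Bp` is faithfully flat over `Ap` -/
theorem uu_faithfullyFlat
    [Module.FaithfullyFlat (Localization.AtPrime P) (Localization.AtPrime P ⊗[A] B)] :
    (uu (k := k) (B := B) (A := A) P :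
      B ⊗[k] Localization.AtPrime P →+* YY (k := k) (B := B) P).FaithfullyFlat := by
  have e : (uu (k := k) (B := B) (A := A) P :
      B ⊗[k] Localization.AtPrime P →+* YY (k := k) (B := B) P) =
      algebraMap (B ⊗[k] Localization.AtPrime P) (YY (k := k) (B := B) P) := by
    apply RingHom.ext
    intro x
    show x ⊗ₜ[Localization.AtPrime P] (1 : Localization.AtPrime P ⊗[A] B) = _
    rw [Algebra.TensorProduct.algebraMap_apply]
    rfl
  rw [e, RingHom.faithfullyFlat_algebraMap_iff]
  infer_instance

end

end Groth.Agent.Helper2.FF
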