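import Mathlib
import Groth.Agent.Lib.Helper2.FF.Twist

set_option autoImplicit false
set_option maxSynthPendingDepth 3
universe u v w
open TensorProduct WithConv

namespace Groth.Agent.Helper2.FF

section
variable {k : Type u} [Field k] {A : Type v} [CommRing A] [HopfAlgebra k A]
  {κ : Type v} [Field κ] [Algebra k κ] (y : A →ₐ[k] κ)

/-- right translation by the point `y`: `a ↦ Σ y(a₂) ⊗ a₁` -/
noncomputable def rhoA : A →ₐ[k] κ ⊗[k] A :=
  (toConv (Algebra.TensorProduct.includeRight : A →ₐ[k] κ ⊗[k] A) *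
    toConv ((Algebra.TensorProduct.includeLeft : κ →ₐ[k] κ ⊗[k] A).comp y)).ofConv

lemma rhoA_injective : Function.Injective (rhoA y) := by
  let θ₂ : A →ₐ[k] κ ⊗[k] A :=
    (toConv (Algebra.TensorProduct.includeRight : A →ₐ[k] κ ⊗[k] A) *
      toConv (((Algebra.TensorProduct.includeLeft : κ →ₐ[k] κ ⊗[k] A).comp y).comp
        (HopfAlgebra.antipodeAlgHom k A))).ofConv
  let θ : κ ⊗[k] A →ₐ[k] κ ⊗[k] A :=
    Algebra.TensorProduct.lift (Algebra.TensorProduct.includeLeft : κ →ₐ[k] κ ⊗[k] A) θ₂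
      (fun _ _ => Commute.all _ _)
  have h1 : θ.comp (rhoA y) = (Algebra.TensorProduct.includeRight : A →ₐ[k] κ ⊗[k] A) := by
    unfold rhoA
    rw [AlgHom.comp_convMul_distrib]
    have e1 : θ.comp (Algebra.TensorProduct.includeRight : A →ₐ[k] κ ⊗[k] A) = θ₂ := by
      ext a
      show Algebra.TensorProduct.lift (Algebra.TensorProduct.includeLeft : κ →ₐ[k] κ ⊗[k] A) θ₂
        (fun _ _ => Commute.all _ _) ((1 : κ) ⊗ₜ[k] a) = _
      rw [Algebra.TensorProduct.lift_tmul, map_one, one_mul]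
    have e2 : θ.comp ((Algebra.TensorProduct.includeLeft : κ →ₐ[k] κ ⊗[k] A).comp y) =
        (Algebra.TensorProduct.includeLeft : κ →ₐ[k] κ ⊗[k] A).comp y := by
      ext a
      show Algebra.TensorProduct.lift (Algebra.TensorProduct.includeLeft : κ →ₐ[k] κ ⊗[k] A) θ₂
        (fun _ _ => Commute.all _ _) ((y a) ⊗ₜ[k] (1 : A)) = _
      rw [Algebra.TensorProduct.lift_tmul, map_one, mul_one]
      rfl
    show (toConv (θ.comp (Algebra.TensorProduct.includeRight : A →ₐ[k] κ ⊗[k] A)) *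
      toConv (θ.comp ((Algebra.TensorProduct.includeLeft : κ →ₐ[k] κ ⊗[k] A).comp y))).ofConv = _
    rw [e1, e2]
    show (toConv (toConv (Algebra.TensorProduct.includeRight : A →ₐ[k] κ ⊗[k] A) *
      toConv (((Algebra.TensorProduct.includeLeft : κ →ₐ[k] κ ⊗[k] A).comp y).comp
        (HopfAlgebra.antipodeAlgHom k A))).ofConv *
      toConv ((Algebra.TensorProduct.includeLeft : κ →ₐ[k] κ ⊗[k] A).comp y)).ofConv = _
    rw [toConv_ofConv, mul_assoc, comp_antipode_mul_id]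
    have : ∀ x : WithConv (A →ₐ[k] κ ⊗[k] A), x * 1 = x := fun x => mul_one x
    rw [this, ofConv_toConv]
  have h2 : Function.Injective (Algebra.TensorProduct.includeRight : A →ₐ[k] κ ⊗[k] A) :=
    Algebra.TensorProduct.includeRight_injective (algebraMap k κ).injective
  intro a b hab
  apply h2
  rw [← h1, AlgHom.comp_apply, AlgHom.comp_apply, hab]

end

section
variable {k : Type u} [Field k] {A : Type v} {B : Type w} [CommRing A] [CommRing B]
  [HopfAlgebra k A] [HopfAlgebra k B] (f : A →ₐc[k] B)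

/-- for every maximal ideal `𝔪` of `A` there is a minimal prime `P` of `A` such that `𝔪` survives
in `B ⊗ A_P` through the twisted map `psi` (translate a generic point to `𝔪`). -/
theorem exists_minimal_map_psi_ne_top (hinj : Function.Injective f) (𝔪 : Ideal A)
    [h𝔪 : 𝔪.IsMaximal] :
    ∃ (P : Ideal A) (_ : P.IsPrime), P ∈ minimalPrimes A ∧
      Ideal.map (psi f P : A →+* B ⊗[k] Localization.AtPrime P) 𝔪 ≠ ⊤ := by
  letI : Field (A ⧸ 𝔪) := Ideal.Quotient.field 𝔪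
  let y : A →ₐ[k] A ⧸ 𝔪 := Ideal.Quotient.mkₐ k 𝔪
  -- the translate `ρ : A → κ ⊗ B`
  let lf : (A ⧸ 𝔪) ⊗[k] A →ₐ[k] (A ⧸ 𝔪) ⊗[k] B :=
    Algebra.TensorProduct.lTensor (S := k) (A ⧸ 𝔪) (f : A →ₐ[k] B)
  have hlf : Function.Injective lf := by
    have : Function.Injective ((f : A →ₐ[k] B).toLinearMap.lTensor (A ⧸ 𝔪)) :=
      Module.Flat.lTensor_preserves_injective_linearMap _ hinj
    exact this
  let ρ : A →ₐ[k] (A ⧸ 𝔪) ⊗[k] B := lf.comp (rhoA y)
  have hρ : Function.Injective ρ := hlf.comp (rhoA_injective y)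
  -- a minimal prime of `A` and a prime of `κ ⊗ B` above it
  obtain ⟨P, hPmin, -⟩ := Ideal.exists_minimalPrimes_le (bot_le : (⊥ : Ideal A) ≤ 𝔪)
  haveI hPprime : P.IsPrime := hPmin.1.1
  have hker : Ideal.comap (ρ : A →+* (A ⧸ 𝔪) ⊗[k] B) ⊥ = ⊥ := by
    rw [← RingHom.ker_eq_comap_bot]
    exact (RingHom.injective_iff_ker_eq_bot _).mp hρ
  obtain ⟨𝔭, h𝔭prime, -, h𝔭⟩ := Ideal.exists_comap_eq_of_mem_minimalPrimes
    (ρ : A →+* (A ⧸ 𝔪) ⊗[k] B) (I := ⊥) P (by rw [hker]; exact hPmin)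
  haveI := h𝔭prime
  refine ⟨P, hPprime, hPmin, ?_⟩
  -- the big field
  let D := ((A ⧸ 𝔪) ⊗[k] B) ⧸ 𝔭
  let L := FractionRing D
  let γ : (A ⧸ 𝔪) ⊗[k] B →ₐ[k] L :=
    (IsScalarTower.toAlgHom k D L).comp (Ideal.Quotient.mkₐ k 𝔭)
  have hγ : ∀ x, γ x = 0 ↔ x ∈ 𝔭 := by
    intro x
    show algebraMap D L (Ideal.Quotient.mk 𝔭 x) = 0 ↔ _
    rw [IsFractionRing.to_map_eq_zero_iff, Ideal.Quotient.eq_zero_iff_mem]
  let g' : B →ₐ[k] L := γ.comp (Algebra.TensorProduct.includeRight : B →ₐ[k] (A ⧸ 𝔪) ⊗[k] B)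
  let ι : A ⧸ 𝔪 →ₐ[k] L :=
    γ.comp (Algebra.TensorProduct.includeLeft : A ⧸ 𝔪 →ₐ[k] (A ⧸ 𝔪) ⊗[k] B)
  let g : B →ₐ[k] L := g'.comp (HopfAlgebra.antipodeAlgHom k B)
  let y₁ : A →ₐ[k] L := γ.comp ρ
  have hy₁ : ∀ a, y₁ a = 0 ↔ a ∈ P := by
    intro a
    show γ (ρ a) = 0 ↔ _
    rw [hγ, ← h𝔭]
    rfl
  have hunit : ∀ s : P.primeCompl, IsUnit (y₁ s) := by
    intro s
    rw [isUnit_iff_ne_zero, Ne, hy₁]
    exact s.2
  let ŷ : Localization.AtPrime P →ₐ[k] L := IsLocalization.liftAlgHom (M := P.primeCompl) hunit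
  have hŷ : ∀ a, ŷ (algebraMap A (Localization.AtPrime P) a) = y₁ a := by
    intro a
    exact IsLocalization.lift_eq _ a
  let Γ : B ⊗[k] Localization.AtPrime P →ₐ[k] L :=
    Algebra.TensorProduct.lift g ŷ (fun _ _ => Commute.all _ _)
  -- `Γ ∘ ψ = ι ∘ y`
  have key : Γ.comp (psi f P) = ι.comp y := by
    unfold psi
    rw [AlgHom.comp_convMul_distrib]
    have e1 : Γ.comp ((Algebra.TensorProduct.includeLeft :
        B →ₐ[k] B ⊗[k] Localization.AtPrime P).comp (f : A →ₐ[k] B)) =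
        (g'.comp (f : A →ₐ[k] B)).comp (HopfAlgebra.antipodeAlgHom k A) := by
      ext a
      show Algebra.TensorProduct.lift g ŷ (fun _ _ => Commute.all _ _)
        ((f a) ⊗ₜ[k] (1 : Localization.AtPrime P)) = g' (f (HopfAlgebra.antipode k a))
      rw [Algebra.TensorProduct.lift_tmul, map_one, mul_one,
        Groth.Agent.Helper2.HopfLib.bialgHom_antipode_apply]
      rfl
    have e2 : Γ.comp ((Algebra.TensorProduct.includeRight :
        Localization.AtPrime P →ₐ[k] B ⊗[k] Localization.AtPrime P).comp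
          (IsScalarTower.toAlgHom k A (Localization.AtPrime P))) = y₁ := by
      ext a
      show Algebra.TensorProduct.lift g ŷ (fun _ _ => Commute.all _ _)
        ((1 : B) ⊗ₜ[k] (algebraMap A (Localization.AtPrime P) a)) = y₁ a
      rw [Algebra.TensorProduct.lift_tmul, map_one, one_mul, hŷ]
    have e3 : y₁ = (toConv (g'.comp (f : A →ₐ[k] B)) * toConv (ι.comp y)).ofConv := by
      show γ.comp (lf.comp (rhoA y)) = _
      unfold rhoA
      rw [AlgHom.comp_convMul_distrib, AlgHom.comp_convMul_distrib]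
      have e4 : γ.comp (lf.comp (Algebra.TensorProduct.includeRight : A →ₐ[k] (A ⧸ 𝔪) ⊗[k] A)) =
          g'.comp (f : A →ₐ[k] B) := by
        ext a
        show γ (lf ((1 : A ⧸ 𝔪) ⊗ₜ[k] a)) = γ ((1 : A ⧸ 𝔪) ⊗ₜ[k] (f a))
        rfl
      have e5 : γ.comp (lf.comp ((Algebra.TensorProduct.includeLeft :
          A ⧸ 𝔪 →ₐ[k] (A ⧸ 𝔪) ⊗[k] A).comp y)) = ι.comp y := by
        ext a
        show γ (lf ((y a) ⊗ₜ[k] (1 : A))) = γ ((y a) ⊗ₜ[k] (1 : B))
        congr 1
        show (y a) ⊗ₜ[k] (f 1) = _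
        rw [map_one]
      show (toConv (γ.comp (lf.comp (Algebra.TensorProduct.includeRight :
          A →ₐ[k] (A ⧸ 𝔪) ⊗[k] A))) * toConv (γ.comp (lf.comp
            ((Algebra.TensorProduct.includeLeft : A ⧸ 𝔪 →ₐ[k] (A ⧸ 𝔪) ⊗[k] A).comp y)))).ofConv = _
      rw [e4, e5]
    show (toConv (Γ.comp ((Algebra.TensorProduct.includeLeft :
        B →ₐ[k] B ⊗[k] Localization.AtPrime P).comp (f : A →ₐ[k] B))) *
      toConv (Γ.comp ((Algebra.TensorProduct.includeRight :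
        Localization.AtPrime P →ₐ[k] B ⊗[k] Localization.AtPrime P).comp
          (IsScalarTower.toAlgHom k A (Localization.AtPrime P))))).ofConv = _
    rw [e1, e2, e3, toConv_ofConv, ← mul_assoc, comp_antipode_mul_id]
    have : ∀ x : WithConv (A →ₐ[k] L), 1 * x = x := fun x => one_mul x
    rw [this, ofConv_toConv]
  -- conclusion
  intro htop
  have h1 : Ideal.map (psi f P : A →+* B ⊗[k] Localization.AtPrime P) 𝔪 ≤
      RingHom.ker (Γ : B ⊗[k] Localization.AtPrime P →+* L) := by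
    rw [Ideal.map_le_iff_le_comap]
    intro a ha
    rw [Ideal.mem_comap, RingHom.mem_ker]
    have h2 := AlgHom.congr_fun key a
    rw [AlgHom.comp_apply, AlgHom.comp_apply] at h2
    refine Eq.trans h2 ?_
    have h3 : y a = 0 := by
      show Ideal.Quotient.mk 𝔪 a = 0
      rw [Ideal.Quotient.eq_zero_iff_mem]
      exact ha
    rw [h3, map_zero]
  rw [htop, top_le_iff] at h1
  have h4 : (1 : B ⊗[k] Localization.AtPrime P) ∈
      RingHom.ker (Γ : B ⊗[k] Localization.AtPrime P →+* L) := by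
    rw [h1]; exact Submodule.mem_top
  rw [RingHom.mem_ker, map_one] at h4
  exact one_ne_zero h4

end

end Groth.Agent.Helper2.FF
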