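import Mathlib

/-!
# An algebra over a local ring with nilpotent maximal ideal which becomes projective after base
change along itself is free (helper2)
-/

set_option autoImplicit false
universe u v w
open TensorProduct

namespace Groth.Agent.Helper2.FF

section nak
variable {R : Type*} [CommRing R] {M : Type*} [AddCommGroup M] [Module R M]

lemma eq_top_of_sup_smul_top (I : Ideal R) (hI : ∃ n : ℕ, I ^ n = ⊥) (N : Submodule R M)
    (h : N ⊔ I • (⊤ : Submodule R M) = ⊤) : N = ⊤ := by
  have key : ∀ n : ℕ, N ⊔ I ^ n • (⊤ : Submodule R M) = ⊤ := by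
    intro n
    induction n with
    | zero => simp
    | succ n ih =>
      have h1 : I • (⊤ : Submodule R M) = I • N ⊔ I ^ (n + 1) • (⊤ : Submodule R M) := by
        have h2 : I • (⊤ : Submodule R M) = I • (N ⊔ I ^ n • (⊤ : Submodule R M)) := by rw [ih]
        rw [h2, Submodule.smul_sup, pow_succ', Submodule.mul_smul]
      have h3 : I • N ≤ N := Submodule.smul_le_right
      have h4 : N ⊔ I • (⊤ : Submodule R M) ≤ N ⊔ I ^ (n + 1) • (⊤ : Submodule R M) := by
        rw [h1]
        exact sup_le le_sup_left (sup_le (le_trans h3 le_sup_left) le_sup_right)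
      rw [h] at h4
      exact eq_top_iff.mpr h4
  obtain ⟨n, hn⟩ := hI
  have := key n
  rw [hn] at this
  simpa using this

lemma eq_bot_of_le_smul (I : Ideal R) (hI : ∃ n : ℕ, I ^ n = ⊥) (K : Submodule R M)
    (h : K ≤ I • K) : K = ⊥ := by
  have key : ∀ n : ℕ, K ≤ I ^ n • K := by
    intro n
    induction n with
    | zero => simp
    | succ n ih =>
      calc K ≤ I • K := h
        _ ≤ I • (I ^ n • K) := Submodule.smul_mono le_rfl ih
        _ = I ^ (n + 1) • K := by rw [pow_succ', Submodule.mul_smul]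
  obtain ⟨n, hn⟩ := hI
  have := key n
  rw [hn] at this
  simpa using this

end nak

variable {R : Type u} [CommRing R] {M : Type v} [CommRing M] [Algebra R M]

/-- lifting a basis of `M / 𝔪M` -/
lemma exists_lift_basis (𝔪 : Ideal R) [𝔪.IsMaximal] (hnil : ∃ n : ℕ, 𝔪 ^ n = ⊥) :
    ∃ (ι : Type v) (x : ι → M), Function.Surjective (Finsupp.linearCombination R x) ∧
      LinearMap.ker (Finsupp.linearCombination R x) ≤ 𝔪 • ⊤ := by
  letI : Field (R ⧸ 𝔪) := Ideal.Quotient.field 𝔪
  let Q := M ⧸ (𝔪 • ⊤ : Submodule R M)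
  let b := Module.Basis.ofVectorSpace (R ⧸ 𝔪) Q
  let ι := Module.Basis.ofVectorSpaceIndex (R ⧸ 𝔪) Q
  have hmk : Function.Surjective (Submodule.mkQ (𝔪 • ⊤ : Submodule R M)) :=
    Submodule.mkQ_surjective _
  choose x hx using fun i : ι => hmk (b i)
  let f := Finsupp.linearCombination R x
  have hmap0 : (Ideal.Quotient.mk 𝔪) 0 = 0 := map_zero _
  have hcomp : ∀ c : ι →₀ R, Submodule.mkQ (𝔪 • ⊤ : Submodule R M) (f c) =
      Finsupp.linearCombination (R ⧸ 𝔪) b (c.mapRange (Ideal.Quotient.mk 𝔪) hmap0) := by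
    intro c
    induction c using Finsupp.induction_linear with
    | zero => simp
    | add c d hc hd =>
      rw [map_add, map_add, hc, hd, Finsupp.mapRange_add (by intro a b; exact map_add _ a b), map_add]
    | single i r =>
      rw [Finsupp.mapRange_single, Finsupp.linearCombination_single,
        Finsupp.linearCombination_single, map_smul, hx]
      rfl
  refine ⟨ι, x, ?_, ?_⟩
  · rw [← LinearMap.range_eq_top]
    apply eq_top_of_sup_smul_top 𝔪 hnil
    rw [eq_top_iff]
    intro m _
    obtain ⟨c, hc⟩ := Finsupp.mapRange_surjective (Ideal.Quotient.mk 𝔪) hmap0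
      Ideal.Quotient.mk_surjective (b.repr (Submodule.mkQ (𝔪 • ⊤ : Submodule R M) m))
    have h1 : Submodule.mkQ (𝔪 • ⊤ : Submodule R M) (f c) =
        Submodule.mkQ (𝔪 • ⊤ : Submodule R M) m := by
      rw [hcomp, hc, Module.Basis.linearCombination_repr]
    have h2 : m - f c ∈ (𝔪 • ⊤ : Submodule R M) := by
      rw [← Submodule.ker_mkQ (𝔪 • ⊤ : Submodule R M), LinearMap.mem_ker, map_sub, h1, sub_self]
    have : m = f c + (m - f c) := by abel
    rw [this]
    exact Submodule.add_mem_sup (LinearMap.mem_range_self f c) h2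
  · intro c hc
    have h1 : Finsupp.linearCombination (R ⧸ 𝔪) b (c.mapRange (Ideal.Quotient.mk 𝔪) hmap0) = 0 := by
      rw [← hcomp, LinearMap.mem_ker.mp hc, map_zero]
    have h2 := linearIndependent_iff.mp b.linearIndependent _ h1
    have h3 : ∀ i, c i ∈ 𝔪 := by
      intro i
      have := DFunLike.congr_fun h2 i
      rw [Finsupp.mapRange_apply, Finsupp.zero_apply, Ideal.Quotient.eq_zero_iff_mem] at this
      exact this
    rw [← Finsupp.sum_single c]
    refine Submodule.sum_mem _ (fun i _ => ?_)
    have : Finsupp.single i (c i) = c i • Finsupp.single i (1 : R) := by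
      rw [Finsupp.smul_single, smul_eq_mul, mul_one]
    rw [this]
    exact Submodule.smul_mem_smul (h3 i) Submodule.mem_top

theorem injective_of_projective_tensor_self (𝔪 : Ideal R) (hnil : ∃ n : ℕ, 𝔪 ^ n = ⊥)
    (hinj : Function.Injective (algebraMap R M))
    [Module.Projective M (M ⊗[R] M)] {F : Type w} [AddCommGroup F] [Module R F] [Module.Flat R F]
    (f : F →ₗ[R] M) (hsurj : Function.Surjective f) (hker : LinearMap.ker f ≤ 𝔪 • ⊤) :
    Function.Injective f := by
  let fM : M ⊗[R] F →ₗ[M] M ⊗[R] M := f.baseChange M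
  have hfM : ∀ z, fM z = f.lTensor M z := fun z => rfl
  have hfMsurj : Function.Surjective fM := by
    intro z
    obtain ⟨w, hw⟩ := LinearMap.lTensor_surjective M hsurj z
    exact ⟨w, hw⟩
  obtain ⟨s, hs⟩ := Module.projective_lifting_property fM LinearMap.id hfMsurj
  have hs' : ∀ z, fM (s z) = z := fun z => LinearMap.congr_fun hs z
  -- the kernel of `fM` is inside `𝔪 • ⊤`
  have hkerM : ∀ z : M ⊗[R] F, f.lTensor M z = 0 → z ∈ (𝔪 • ⊤ : Submodule R (M ⊗[R] F)) := by
    intro z hz
    have hex := lTensor_exact M (LinearMap.exact_subtype_ker_map f) hsurj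
    obtain ⟨w, rfl⟩ := (hex z).mp hz
    clear hz
    induction w using TensorProduct.induction_on with
    | zero => rw [map_zero]; exact Submodule.zero_mem _
    | tmul m c =>
      rw [LinearMap.lTensor_tmul]
      have hc : (c : F) ∈ (𝔪 • ⊤ : Submodule R F) := hker c.2
      exact Submodule.smul_top_le_comap_smul_top 𝔪 (TensorProduct.mk R M F m) hc
    | add a b ha hb => rw [map_add]; exact Submodule.add_mem _ ha hb
  -- the idempotent `g = 1 - s ∘ fM`
  let g : M ⊗[R] F →ₗ[R] M ⊗[R] F := LinearMap.id - (s.restrictScalars R) ∘ₗ (fM.restrictScalars R)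
  have hg : ∀ z, g z = z - s (fM z) := fun z => rfl
  have hgg : ∀ z, g (g z) = g z := by
    intro z
    rw [hg (g z), hg z, map_sub, hs', sub_self, map_zero, sub_zero]
  have hrange : LinearMap.range g ≤ 𝔪 • ⊤ := by
    rintro _ ⟨z, rfl⟩
    apply hkerM
    rw [← hfM, hg, map_sub, hs', sub_self]
  have hgbot : LinearMap.range g = ⊥ := by
    apply eq_bot_of_le_smul 𝔪 hnil
    have h1 : LinearMap.range g ≤ Submodule.map g (LinearMap.range g) := by
      rintro _ ⟨z, rfl⟩
      exact ⟨g z, LinearMap.mem_range_self g z, hgg z⟩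
    refine le_trans h1 (le_trans (Submodule.map_mono hrange) ?_)
    rw [Submodule.map_smul'', Submodule.map_top]
  have hg0 : ∀ z, g z = 0 := by
    intro z
    have : g z ∈ LinearMap.range g := LinearMap.mem_range_self g z
    rw [hgbot] at this
    exact (Submodule.mem_bot R).mp this
  have hfMinj : Function.Injective fM := by
    intro a b hab
    have ha := hg0 a
    have hb := hg0 b
    rw [hg, sub_eq_zero] at ha hb
    rw [ha, hb, hab]
  -- `c ↦ 1 ⊗ c` is injective
  have hone : Function.Injective (fun c : F => (1 : M) ⊗ₜ[R] c) := by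
    have h1 : Function.Injective ((Algebra.linearMap R M).rTensor F) :=
      Module.Flat.rTensor_preserves_injective_linearMap _ hinj
    intro a b hab
    have h2 : (Algebra.linearMap R M).rTensor F ((1 : R) ⊗ₜ[R] a) =
        (Algebra.linearMap R M).rTensor F ((1 : R) ⊗ₜ[R] b) := by
      simpa using hab
    have h3 := h1 h2
    have h4 := congrArg (TensorProduct.lid R F) h3
    simpa using h4
  rw [injective_iff_map_eq_zero]
  intro c hc
  apply hone
  apply hfMinj
  show fM ((1 : M) ⊗ₜ[R] c) = fM ((1 : M) ⊗ₜ[R] 0)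
  rw [hfM, hfM, LinearMap.lTensor_tmul, LinearMap.lTensor_tmul, hc, map_zero]

/-- **Artinian freeness criterion**: if `R → M` is injective, `𝔪` is a nilpotent maximal ideal
of `R` and `M ⊗[R] M` is projective over `M`, then `M` is free over `R`. -/
theorem free_of_projective_tensor_self (𝔪 : Ideal R) [𝔪.IsMaximal] (hnil : ∃ n : ℕ, 𝔪 ^ n = ⊥)
    (hinj : Function.Injective (algebraMap R M))
    [Module.Projective M (M ⊗[R] M)] : Module.Free R M := by
  obtain ⟨ι, x, hsurj, hker⟩ := exists_lift_basis (M := M) 𝔪 hnil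
  have hfinj := injective_of_projective_tensor_self 𝔪 hnil hinj
    (Finsupp.linearCombination R x) hsurj hker
  exact Module.Free.of_equiv (LinearEquiv.ofBijective (Finsupp.linearCombination R x)
    ⟨hfinj, hsurj⟩)

end Groth.Agent.Helper2.FF
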