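import Mathlib
import Groth.Agent.Lib.Helper2.FF.Art
import Groth.Agent.Lib.Helper2.FF.HopfRetract

set_option autoImplicit false
universe u v w
open TensorProduct

namespace Groth.Agent.Helper2.FF

section
variable {k : Type u} [Field k] {A : Type v} {B : Type w} [CommRing A] [CommRing B]
  [HopfAlgebra k A] [HopfAlgebra k B] (f : A →ₐc[k] B)
  [Algebra A B] [IsScalarTower k A B] (hf : ∀ a, algebraMap A B a = f a)

attribute [local instance] Algebra.TensorProduct.rightAlgebra

omit [HopfAlgebra k A] [HopfAlgebra k B] [IsScalarTower k A B] in
/-- the localisation of an injective algebra map is injective -/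
lemma algebraMap_localization_injective (hinj : Function.Injective (algebraMap A B))
    (P : Ideal A) [P.IsPrime] :
    Function.Injective
      (algebraMap (Localization.AtPrime P) (Localization.AtPrime P ⊗[A] B)) := by
  have h1 : Function.Injective ((Algebra.linearMap A B).lTensor (Localization.AtPrime P)) :=
    Module.Flat.lTensor_preserves_injective_linearMap _ hinj
  intro x y hxy
  have h2 : (Algebra.linearMap A B).lTensor (Localization.AtPrime P) (x ⊗ₜ[A] (1 : A)) =
      (Algebra.linearMap A B).lTensor (Localization.AtPrime P) (y ⊗ₜ[A] (1 : A)) := by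
    rw [LinearMap.lTensor_tmul, LinearMap.lTensor_tmul, Algebra.linearMap_apply, map_one]
    exact hxy
  have h3 := congrArg (TensorProduct.rid A (Localization.AtPrime P)) (h1 h2)
  simpa using h3

include hf in
/-- at a minimal prime of the (noetherian) base, the localisation of `B` is free -/
theorem free_localization_minimal [IsNoetherianRing A]
    (hinj : Function.Injective (algebraMap A B))
    (P : Ideal A) [P.IsPrime] (hP : P ∈ minimalPrimes A) :
    Module.Free (Localization.AtPrime P) (Localization.AtPrime P ⊗[A] B) := by
  haveI : Ring.KrullDimLE 0 (Localization.AtPrime P) :=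
    Ring.KrullDimLE.of_isLocalization P hP (Localization.AtPrime P)
  haveI : IsNoetherianRing (Localization.AtPrime P) :=
    IsLocalization.isNoetherianRing P.primeCompl _ inferInstance
  have hnil : ∃ n : ℕ, IsLocalRing.maximalIdeal (Localization.AtPrime P) ^ n = ⊥ := by
    have := IsNoetherianRing.isNilpotent_nilradical (Localization.AtPrime P)
    rw [Ring.KrullDimLE.nilradical_eq_maximalIdeal] at this
    exact this
  have hinjM : Function.Injective
      (algebraMap (Localization.AtPrime P) (Localization.AtPrime P ⊗[A] B)) :=
    algebraMap_localization_injective hinj P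
  haveI : Module.Projective B (B ⊗[A] B) := projective_tensor_self f hf
  let e1 := TensorProduct.AlgebraTensorModule.cancelBaseChange A (Localization.AtPrime P)
    (Localization.AtPrime P ⊗[A] B) (Localization.AtPrime P ⊗[A] B) B
  let e2 := TensorProduct.AlgebraTensorModule.cancelBaseChange A B
    (Localization.AtPrime P ⊗[A] B) (Localization.AtPrime P ⊗[A] B) B
  haveI : Module.Projective (Localization.AtPrime P ⊗[A] B)
      ((Localization.AtPrime P ⊗[A] B) ⊗[Localization.AtPrime P] (Localization.AtPrime P ⊗[A] B)) :=
    Module.Projective.of_equiv (e2.trans e1.symm)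
  exact free_of_projective_tensor_self (IsLocalRing.maximalIdeal (Localization.AtPrime P)) hnil hinjM

end

end Groth.Agent.Helper2.FF
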