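import Mathlib
import Groth.Agent.Lib.Helper2.FF.MinFree
import Groth.Agent.Lib.Helper2.FF.DescRing
import Groth.Agent.Lib.Helper2.FF.GenericPoint

set_option autoImplicit false
set_option maxSynthPendingDepth 3
universe u v w
open TensorProduct

namespace Groth.Agent.Helper2.FF

/-- **Faithful flatness of Hopf algebras over Hopf subalgebras** (noetherian base). -/
theorem faithfullyFlat_of_injective_of_noetherian {k : Type u} {A : Type v} {B : Type w}
    [Field k] [CommRing A] [CommRing B] [HopfAlgebra k A] [HopfAlgebra k B] [IsNoetherianRing A]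
    (f : A →ₐc[k] B) (hinj : Function.Injective f) : (f : A →+* B).FaithfullyFlat := by
  apply faithfullyFlat_of_pushouts.{v, w, max v w}
  intro 𝔪 hmax
  obtain ⟨P, hP, hPmin, hne⟩ := exists_minimal_map_psi_ne_top f hinj 𝔪
  letI : Algebra A B := (f : A →+* B).toAlgebra
  haveI : IsScalarTower k A B := IsScalarTower.of_algebraMap_eq (fun r => by
    show algebraMap k B r = f (algebraMap k A r)
    exact (AlgHomClass.commutes f r).symm)
  have hf' : ∀ a, algebraMap A B a = f a := fun _ => rfl
  have hinj' : Function.Injective (algebraMap A B) := hinj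
  haveI : Module.Free (Localization.AtPrime P) (Localization.AtPrime P ⊗[A] B) :=
    free_localization_minimal f hf' hinj' P hPmin
  haveI : Nontrivial (Localization.AtPrime P ⊗[A] B) :=
    (algebraMap_localization_injective hinj' P).nontrivial
  refine ⟨B ⊗[k] Localization.AtPrime P, inferInstance, YY (k := k) (B := B) P, inferInstance,
    (psi f P : A →+* B ⊗[k] Localization.AtPrime P),
    (uu (k := k) (B := B) P : B ⊗[k] Localization.AtPrime P →+* YY (k := k) (B := B) P),
    (vv (k := k) (B := B) P : B →+* YY (k := k) (B := B) P),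
    psi_flat f P, hne, uu_faithfullyFlat P, ?_, ?_⟩
  · apply RingHom.ext
    intro a
    exact AlgHom.congr_fun (uu_comp_psi f hf' P) a
  · intro Z _ u' v' h
    exact exists_desc f hf' P Z u' v' h

end Groth.Agent.Helper2.FF
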