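import Mathlib
import Groth.Agent.Lib.Helper2.FF.Main
import Groth.Agent.Lib.Helper2.Hopf.HopfSub

set_option autoImplicit false
set_option maxSynthPendingDepth 3
universe u v w
open TensorProduct

namespace Groth.Agent.Helper2.FF

open Groth.Agent.Helper2.HopfSub

/-- a commutative Hopf algebra over a field is faithfully flat over a noetherian sub-Hopf-algebra,
in the form of an injective algebra map whose image is stable under comultiplication and
antipode -/
theorem faithfullyFlat_of_hopfSub {k : Type u} [Field k] {A : Type v} [CommRing A]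
    [HopfAlgebra k A] {R : Type w} [CommRing R] [Algebra k R] [IsNoetherianRing R]
    (ι : R →ₐ[k] A) (hι : Function.Injective ι)
    (hΔ : ∀ b : R, Coalgebra.comul (R := k) (ι b) ∈ (ι₂ ι).range)
    (hS : ∀ b : R, HopfAlgebra.antipode k (ι b) ∈ ι.range) :
    (ι : R →+* A).FaithfullyFlat := by
  letI := hopfAlgebraB hι hΔ hS
  exact faithfullyFlat_of_injective_of_noetherian (ιBialg hι hΔ hS) hι

/-- the range of a bialgebra map -/
theorem faithfullyFlat_range_val {k : Type u} [Field k] {A : Type v} {B : Type w} [CommRing A]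
    [CommRing B] [HopfAlgebra k A] [HopfAlgebra k B] [IsNoetherianRing A] (f : A →ₐc[k] B) :
    ((f : A →ₐ[k] B).range.val : (f : A →ₐ[k] B).range →+* B).FaithfullyFlat := by
  haveI : IsNoetherianRing (f : A →ₐ[k] B).range :=
    isNoetherianRing_of_surjective A _ ((f : A →ₐ[k] B).rangeRestrict : A →+* _)
      (f : A →ₐ[k] B).rangeRestrict_surjective
  apply faithfullyFlat_of_hopfSub (f : A →ₐ[k] B).range.val Subtype.val_injective
  · rintro ⟨_, a, rfl⟩
    show Coalgebra.comul (R := k) (f a) ∈ _
    have h1 : Coalgebra.comul (R := k) (f a) =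
        TensorProduct.map (f : A →ₗ[k] B) (f : A →ₗ[k] B) (Coalgebra.comul (R := k) a) :=
      (CoalgHomClass.map_comp_comul_apply f a).symm
    rw [h1]
    refine ⟨Algebra.TensorProduct.map (f : A →ₐ[k] B).rangeRestrict
      (f : A →ₐ[k] B).rangeRestrict (Coalgebra.comul (R := k) a), ?_⟩
    generalize Coalgebra.comul (R := k) a = z
    induction z using TensorProduct.induction_on with
    | zero => simp
    | tmul x y => rfl
    | add x y hx hy => simp only [map_add, hx, hy]
  · rintro ⟨_, a, rfl⟩
    refine ⟨⟨f (HopfAlgebra.antipode k a), ⟨_, rfl⟩⟩, ?_⟩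
    show f (HopfAlgebra.antipode k a) = HopfAlgebra.antipode k (f a)
    exact Groth.Agent.Helper2.HopfLib.bialgHom_antipode_apply f a

end Groth.Agent.Helper2.FF
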