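import Mathlib
import Groth.Agent.Lib.Helper2.FF.HopfFGU
import Groth.Agent.Lib.Helper2.Hopf.HopfSub
import Groth.Agent.Lib.Helper2.FF.Sub

/-!
# Takeuchi's theorem: a commutative Hopf algebra over a field is faithfully flat over every
sub-Hopf-algebra (reduction to the finitely generated case by directed unions) (helper2)
-/

set_option autoImplicit false
set_option maxSynthPendingDepth 3
universe u v
open TensorProduct

namespace Groth.Agent.Helper2.FF

section
variable {k : Type u} [CommRing k] {A : Type v} [CommRing A] [Algebra k A]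

/-- directed-union criterion for faithful flatness over a subalgebra -/
theorem faithfullyFlat_of_directed (B : Subalgebra k A)
    (h : ∀ (T S : Finset A), (↑T : Set A) ⊆ B →
      ∃ (B' A' : Subalgebra k A) (h2 : B' ≤ A'), B' ≤ B ∧ (↑T : Set A) ⊆ B' ∧ (↑S : Set A) ⊆ A' ∧
        (Subalgebra.inclusion h2 : B' →+* A').FaithfullyFlat) :
    Module.FaithfullyFlat B A := by
  classical
  have hflat : Module.Flat B A := by
    rw [Module.Flat.iff_forall_isTrivialRelation]
    intro l f x hfx
    obtain ⟨B', A', h2, hB'B, hT, hS, hff⟩ := h (Finset.univ.image (fun i => (f i : A)))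
      (Finset.univ.image x) (by
        intro t ht
        simp only [Finset.coe_image, Finset.coe_univ, Set.image_univ, Set.mem_range] at ht
        obtain ⟨i, rfl⟩ := ht
        exact (f i).2)
    have hfB' : ∀ i, (f i : A) ∈ B' := fun i => hT (by simp)
    have hxA' : ∀ i, x i ∈ A' := fun i => hS (by simp)
    letI := (Subalgebra.inclusion h2 : B' →+* A').toAlgebra
    have hfl : Module.Flat B' A' := hff.flat
    have hrel : ∑ i, (⟨(f i : A), hfB' i⟩ : B') • (⟨x i, hxA' i⟩ : A') = 0 := by
      apply Subtype.ext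
      show A'.val _ = (0 : A)
      rw [← hfx, map_sum]
      rfl
    obtain ⟨κ, a, y, h1, h3⟩ := Module.Flat.iff_forall_isTrivialRelation.mp hfl hrel
    refine ⟨κ, fun i j => Subalgebra.inclusion hB'B (a i j), fun j => (y j : A), ?_, ?_⟩
    · intro i
      have := congrArg A'.val (h1 i)
      rw [map_sum] at this
      exact this
    · intro j
      have := congrArg (Subalgebra.inclusion hB'B) (h3 j)
      rw [map_sum, map_zero] at this
      rw [← this]
      apply Finset.sum_congr rfl
      intro i _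
      rw [map_mul]
      rfl
  refine ⟨fun 𝔪 h𝔪 htop => ?_⟩
  have h1 : (1 : A) ∈ 𝔪 • (⊤ : Submodule B A) := by rw [htop]; trivial
  have hspan : (⊤ : Submodule B A) = Submodule.span B (Set.range (id : A → A)) := by
    rw [Set.range_id, Submodule.span_univ]
  rw [hspan, Submodule.mem_ideal_smul_span_iff_exists_sum] at h1
  obtain ⟨a, ha, hsum⟩ := h1
  obtain ⟨B', A', h2, hB'B, hT, hS, hff⟩ := h (a.support.image (fun x => (a x : A))) a.support (by
      intro t ht
      simp only [Finset.coe_image, Set.mem_image] at ht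
      obtain ⟨x, _, rfl⟩ := ht
      exact (a x).2)
  have haB' : ∀ x ∈ a.support, (a x : A) ∈ B' := fun x hx => hT (by
    simp only [Finset.coe_image, Set.mem_image]
    exact ⟨x, hx, rfl⟩)
  have hxA' : ∀ x ∈ a.support, x ∈ A' := fun x hx => hS hx
  letI := (Subalgebra.inclusion h2 : B' →+* A').toAlgebra
  haveI : Module.FaithfullyFlat B' A' := hff
  set J : Ideal B' := Ideal.comap (Subalgebra.inclusion hB'B : B' →+* B) 𝔪 with hJ
  have hJne : J ≠ ⊤ := by
    intro hJtop
    have : (1 : B') ∈ J := by rw [hJtop]; trivial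
    rw [hJ, Ideal.mem_comap, map_one] at this
    exact h𝔪.ne_top ((Ideal.eq_top_iff_one _).mpr this)
  have hone : (1 : A') ∈ J.map (algebraMap B' A') := by
    have e : (1 : A') = ∑ x ∈ a.support.attach,
        algebraMap B' A' ⟨(a x.1 : A), haB' x.1 x.2⟩ * ⟨x.1, hxA' x.1 x.2⟩ := by
      apply Subtype.ext
      show (1 : A) = A'.val _
      rw [map_sum, ← hsum, Finsupp.sum, ← Finset.sum_attach]
      rfl
    rw [e]
    apply Ideal.sum_mem
    intro x _
    apply Ideal.mul_mem_right
    apply Ideal.mem_map_of_mem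
    rw [hJ, Ideal.mem_comap]
    have : (Subalgebra.inclusion hB'B : B' →+* B) ⟨(a x.1 : A), haB' x.1 x.2⟩ = a x.1 :=
      Subtype.ext rfl
    rw [this]
    exact ha _
  apply hJne
  rw [← Ideal.comap_map_eq_self_of_faithfullyFlat (B := A') J, (Ideal.eq_top_iff_one _).mpr hone,
    Ideal.comap_top]

end


section
variable {k : Type u} [CommRing k] {A : Type v} [CommRing A] [Algebra k A]

lemma range_map_val_mono {B₁ B₂ : Subalgebra k A} (h : B₁ ≤ B₂) :
    (Algebra.TensorProduct.map B₁.val B₁.val).range ≤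
      (Algebra.TensorProduct.map B₂.val B₂.val).range := by
  rintro _ ⟨z, rfl⟩
  refine ⟨Algebra.TensorProduct.map (Subalgebra.inclusion h) (Subalgebra.inclusion h) z, ?_⟩
  show (Algebra.TensorProduct.map B₂.val B₂.val)
      ((Algebra.TensorProduct.map (Subalgebra.inclusion h) (Subalgebra.inclusion h)) z) =
    (Algebra.TensorProduct.map B₁.val B₁.val) z
  rw [← AlgHom.comp_apply, ← Algebra.TensorProduct.map_comp]
  rfl

end

section
variable {k : Type u} [Field k] {A : Type v} [CommRing A] [HopfAlgebra k A]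

/-- sub-Hopf-algebras, algebra-hom form -/
def HS (B : Subalgebra k A) : Prop :=
  (∀ b ∈ B, Coalgebra.comul (R := k) b ∈ (Algebra.TensorProduct.map B.val B.val).range) ∧
    ∀ b ∈ B, HopfAlgebra.antipode k b ∈ B

lemma HS_adjoin (s : Set A)
    (h1 : ∀ x ∈ s, Coalgebra.comul (R := k) x ∈
      (Algebra.TensorProduct.map (Algebra.adjoin k s).val (Algebra.adjoin k s).val).range)
    (h2 : ∀ x ∈ s, HopfAlgebra.antipode k x ∈ Algebra.adjoin k s) : HS (Algebra.adjoin k s) := by
  constructor
  · have : Algebra.adjoin k s ≤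
        ((Algebra.TensorProduct.map (Algebra.adjoin k s).val (Algebra.adjoin k s).val).range).comap
          (Bialgebra.comulAlgHom k A) := by
      apply Algebra.adjoin_le
      intro x hx
      exact h1 x hx
    intro b hb
    exact this hb
  · have : Algebra.adjoin k s ≤ (Algebra.adjoin k s).comap (HopfAlgebra.antipodeAlgHom k A) := by
      apply Algebra.adjoin_le
      intro x hx
      exact h2 x hx
    intro b hb
    exact this hb

lemma HS_sup {B₁ B₂ : Subalgebra k A} (h₁ : HS B₁) (h₂ : HS B₂) : HS (B₁ ⊔ B₂) := by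
  have e : B₁ ⊔ B₂ = Algebra.adjoin k ((B₁ : Set A) ∪ (B₂ : Set A)) := by
    rw [Algebra.adjoin_union, Algebra.adjoin_eq, Algebra.adjoin_eq]
  rw [e]
  apply HS_adjoin
  · rintro x (hx | hx)
    · exact range_map_val_mono (by rw [← e]; exact le_sup_left) (h₁.1 x hx)
    · exact range_map_val_mono (by rw [← e]; exact le_sup_right) (h₂.1 x hx)
  · rintro x (hx | hx)
    · exact Algebra.subset_adjoin (Or.inl (h₁.2 x hx))
    · exact Algebra.subset_adjoin (Or.inr (h₂.2 x hx))

lemma HS_bot : HS (⊥ : Subalgebra k A) := by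
  constructor
  · intro b hb
    obtain ⟨r, rfl⟩ := Algebra.mem_bot.mp hb
    have : Coalgebra.comul (R := k) (algebraMap k A r) = algebraMap k (A ⊗[k] A) r :=
      (Bialgebra.comulAlgHom k A).commutes r
    rw [this]
    exact Subalgebra.algebraMap_mem _ r
  · intro b hb
    obtain ⟨r, rfl⟩ := Algebra.mem_bot.mp hb
    have : HopfAlgebra.antipode k (algebraMap k A r) = algebraMap k A r :=
      (HopfAlgebra.antipodeAlgHom k A).commutes r
    rw [this]
    exact Subalgebra.algebraMap_mem _ r

end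

section
variable {k : Type u} [Field k] {A : Type v} [CommRing A] [HopfAlgebra k A]

lemma HS_of_isHopfSub (B : Subalgebra k A)
    (h1 : ∀ b ∈ B, Coalgebra.comul (R := k) b ∈
      LinearMap.range (TensorProduct.map B.val.toLinearMap B.val.toLinearMap))
    (h2 : ∀ b ∈ B, HopfAlgebra.antipode k b ∈ B) : HS B := by
  refine ⟨fun b hb => ?_, h2⟩
  obtain ⟨z, hz⟩ := h1 b hb
  exact ⟨z, hz⟩

/-- every finite subset lies in a finitely generated sub-Hopf-algebra containing a given one -/
lemma exists_fg_HS_finset (B₀ : Subalgebra k A) (h₀ : B₀.FG) (hB₀ : HS B₀) (S : Finset A) :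
    ∃ A' : Subalgebra k A, B₀ ≤ A' ∧ (↑S : Set A) ⊆ A' ∧ A'.FG ∧ HS A' := by
  classical
  induction S using Finset.induction_on with
  | empty => exact ⟨B₀, le_rfl, by simp, h₀, hB₀⟩
  | insert x S _ ih =>
    obtain ⟨A', h1, h2, h3, h4⟩ := ih
    obtain ⟨C, hxC, hCfg, hC1, hC2⟩ :=
      Groth.Agent.Helper2.HopfFGU.exists_fg_hopf_subalgebra (k := k) x
    refine ⟨A' ⊔ C, le_trans h1 le_sup_left, ?_, Subalgebra.FG.sup h3 hCfg,
      HS_sup h4 (HS_of_isHopfSub C hC1 hC2)⟩
    intro y hy
    rw [Finset.coe_insert] at hy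
    rcases hy with rfl | hy
    · exact (le_sup_right : C ≤ A' ⊔ C) hxC
    · exact (le_sup_left : A' ≤ A' ⊔ C) (h2 hy)

end


section
variable {k : Type u} [Field k] {A : Type v} [CommRing A] [HopfAlgebra k A]

open Groth.Agent.Helper2.HopfSub

/-- a sub-Hopf-algebra is faithfully flat over a finitely generated sub-Hopf-algebra of it -/
lemma faithfullyFlat_inclusion {B' A' : Subalgebra k A} (h2 : B' ≤ A') (hB' : HS B') (hA' : HS A')
    (hfg : B'.FG) : (Subalgebra.inclusion h2 : B' →+* A').FaithfullyFlat := by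
  have hΔ : ∀ b : A', Coalgebra.comul (R := k) (A'.val b) ∈ (ι₂ A'.val).range :=
    fun b => hA'.1 b b.2
  have hS : ∀ b : A', HopfAlgebra.antipode k (A'.val b) ∈ A'.val.range :=
    fun b => ⟨⟨_, hA'.2 b b.2⟩, rfl⟩
  letI : HopfAlgebra k A' := hopfAlgebraB (ι := A'.val) Subtype.val_injective hΔ hS
  haveI : Algebra.FiniteType k B' := (Subalgebra.fg_iff_finiteType B').mp hfg
  haveI : IsNoetherianRing B' := Algebra.FiniteType.isNoetherianRing k B'
  refine faithfullyFlat_of_hopfSub (Subalgebra.inclusion h2) (Subalgebra.inclusion_injective h2)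
    ?_ ?_
  · intro b
    obtain ⟨z, hz⟩ := hB'.1 b b.2
    refine ⟨z, ?_⟩
    apply ι₂_injective (ι := A'.val) Subtype.val_injective
    have e1 : ι₂ A'.val (Coalgebra.comul (R := k) (Subalgebra.inclusion h2 b)) =
        Coalgebra.comul (R := k) (b : A) :=
      ι₂_comulB (ι := A'.val) Subtype.val_injective hΔ (Subalgebra.inclusion h2 b)
    rw [e1, ← hz]
    show ((ι₂ A'.val).comp (ι₂ (Subalgebra.inclusion h2))) z = _
    rw [← Algebra.TensorProduct.map_comp]
    rfl
  · intro b
    refine ⟨⟨HopfAlgebra.antipode k (b : A), hB'.2 b b.2⟩, ?_⟩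
    apply Subtype.val_injective
    exact (ι_antipodeB (ι := A'.val) Subtype.val_injective hS (Subalgebra.inclusion h2 b)).symm

end

section
variable {k : Type u} [Field k] {A : Type v} [CommRing A] [HopfAlgebra k A]

open Groth.Agent.Helper2.HopfSub

/-- inside a sub-Hopf-algebra, every finite subset lies in a finitely generated sub-Hopf-algebra -/
lemma exists_fg_HS_le (B : Subalgebra k A) (hB : HS B) (T : Finset A) (hT : (↑T : Set A) ⊆ B) :
    ∃ B' : Subalgebra k A, B' ≤ B ∧ (↑T : Set A) ⊆ B' ∧ B'.FG ∧ HS B' := by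
  classical
  have hΔ : ∀ b : B, Coalgebra.comul (R := k) (B.val b) ∈ (ι₂ B.val).range :=
    fun b => hB.1 b b.2
  have hS : ∀ b : B, HopfAlgebra.antipode k (B.val b) ∈ B.val.range :=
    fun b => ⟨⟨_, hB.2 b b.2⟩, rfl⟩
  letI : HopfAlgebra k B := hopfAlgebraB (ι := B.val) Subtype.val_injective hΔ hS
  obtain ⟨B'', -, hT'', hfg, hHS⟩ :=
    exists_fg_HS_finset (k := k) (A := B) ⊥ Subalgebra.fg_bot (HS_bot (k := k) (A := B))
      (T.subtype (· ∈ B))
  refine ⟨B''.map B.val, ?_, ?_, hfg.map _, ?_, ?_⟩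
  · rintro _ ⟨c, _, rfl⟩
    exact c.2
  · intro t ht
    refine ⟨⟨t, hT ht⟩, hT'' ?_, rfl⟩
    rw [Finset.mem_coe, Finset.mem_subtype]
    exact ht
  · rintro _ ⟨c, hc, rfl⟩
    obtain ⟨z, hz⟩ := hHS.1 c hc
    let e : B'' →ₐ[k] (B''.map B.val : Subalgebra k A) :=
      (B.val.comp B''.val).codRestrict (B''.map B.val) (fun x => ⟨x.1, x.2, rfl⟩)
    refine ⟨Algebra.TensorProduct.map e e z, ?_⟩
    have e1 : ι₂ B.val (Coalgebra.comul (R := k) c) = Coalgebra.comul (R := k) (c : A) :=
      ι₂_comulB (ι := B.val) Subtype.val_injective hΔ c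
    show _ = Coalgebra.comul (R := k) (c : A)
    rw [← e1, ← hz]
    show ((Algebra.TensorProduct.map (B''.map B.val).val (B''.map B.val).val).comp
      (Algebra.TensorProduct.map e e)) z =
      ((ι₂ B.val).comp (Algebra.TensorProduct.map B''.val B''.val)) z
    rw [← Algebra.TensorProduct.map_comp, ← Algebra.TensorProduct.map_comp]
    rfl
  · rintro _ ⟨c, hc, rfl⟩
    refine ⟨HopfAlgebra.antipode k c, hHS.2 c hc, ?_⟩
    exact ι_antipodeB (ι := B.val) Subtype.val_injective hS c

/-- **Takeuchi's theorem**: a commutative Hopf algebra over a field is faithfully flat over every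
sub-Hopf-algebra. -/
theorem faithfullyFlat_of_HS (B : Subalgebra k A) (hB : HS B) : Module.FaithfullyFlat B A := by
  apply faithfullyFlat_of_directed
  intro T S hT
  obtain ⟨B', hB'B, hTB', hfg, hHS'⟩ := exists_fg_HS_le B hB T hT
  obtain ⟨A', hBA', hSA', -, hHSA⟩ := exists_fg_HS_finset B' hfg hHS' S
  exact ⟨B', A', hBA', hB'B, hTB', hSA', faithfullyFlat_inclusion hBA' hHS' hHSA hfg⟩

end

end Groth.Agent.Helper2.FF
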