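import Mathlib
import Groth.Agent.Lib.Helper2.FF.Union
import Groth.Agent.Lib.Helper2.Hopf.BialgTransport

/-!
# Epimorphic bialgebra maps between commutative Hopf algebras over a field are surjective (helper2)
-/

set_option autoImplicit false
universe u v w
open TensorProduct

namespace Groth.Agent.Helper2.FF

section
variable {k : Type u} [Field k] {A' : Type v} {A : Type w} [CommRing A'] [CommRing A]
  [HopfAlgebra k A'] [HopfAlgebra k A]

/-- the range of a bialgebra map is a sub-Hopf-algebra -/
lemma HS_range (f : A' →ₐc[k] A) : HS (f : A' →ₐ[k] A).range := by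
  constructor
  · rintro _ ⟨a, rfl⟩
    show Coalgebra.comul (R := k) (f a) ∈ _
    have h1 : Coalgebra.comul (R := k) (f a) =
        TensorProduct.map (f : A' →ₗ[k] A) (f : A' →ₗ[k] A) (Coalgebra.comul (R := k) a) :=
      (CoalgHomClass.map_comp_comul_apply f a).symm
    rw [h1]
    refine ⟨Algebra.TensorProduct.map (f : A' →ₐ[k] A).rangeRestrict
      (f : A' →ₐ[k] A).rangeRestrict (Coalgebra.comul (R := k) a), ?_⟩
    generalize Coalgebra.comul (R := k) a = z
    induction z using TensorProduct.induction_on with
    | zero => simp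
    | tmul x y => rfl
    | add x y hx hy => simp only [map_add, hx, hy]
  · rintro _ ⟨a, rfl⟩
    refine ⟨HopfAlgebra.antipode k a, ?_⟩
    exact Groth.Agent.Helper2.HopfLib.bialgHom_antipode_apply f a

end

section
variable {k : Type u} [Field k] {A' : Type v} {A : Type w} [CommRing A'] [CommRing A]
  [HopfAlgebra k A'] [HopfAlgebra k A]

/-- a bialgebra map between commutative Hopf algebras over a field which is an epimorphism of
rings is surjective -/
theorem surjective_of_epi (φ : A' →ₐc[k] A)
    (hepi : ∀ (R : Type w) [CommRing R] (f g : A →+* R),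
      f.comp (φ : A' →+* A) = g.comp (φ : A' →+* A) → f = g) :
    Function.Surjective φ := by
  set B : Subalgebra k A := (φ : A' →ₐ[k] A).range with hB
  haveI : Module.FaithfullyFlat B A := faithfullyFlat_of_HS B (HS_range φ)
  have heff := Algebra.IsEffective.eqLocus_includeLeft_includeRight
    (Algebra.IsEffective.of_faithfullyFlat B A)
  have hfg := hepi (A ⊗[B] A) Algebra.TensorProduct.includeLeftRingHom
    (Algebra.TensorProduct.includeRight (R := B) (A := A) (B := A)).toRingHom (by
      apply RingHom.ext
      intro x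
      show (φ x) ⊗ₜ[B] (1 : A) = (1 : A) ⊗ₜ[B] (φ x)
      have hx : φ x ∈ B := ⟨x, rfl⟩
      have e : φ x = (⟨φ x, hx⟩ : B) • (1 : A) := by
        rw [Algebra.smul_def, mul_one]; rfl
      conv_lhs => rw [e, TensorProduct.smul_tmul]
      rw [← e])
  intro a
  have ha : a ∈ (Algebra.TensorProduct.includeLeftRingHom.eqLocus
      (Algebra.TensorProduct.includeRight (R := B) (A := A) (B := A)).toRingHom :
        Subring A) := by
    show Algebra.TensorProduct.includeLeftRingHom a = _
    rw [hfg]
  have := heff ▸ SetLike.mem_coe.mpr ha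
  obtain ⟨⟨_, x, rfl⟩, hx⟩ := this
  exact ⟨x, hx⟩

end

end Groth.Agent.Helper2.FF
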